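import Groth.Agent.LoccohB.LTen
import Groth.Agent.Dcoh.CxFun
import Groth.Prelude.Def_DTen2

/-!
# Foundations for the derived tensor products of `Def_DTen`

* `IsLeftGood` objects for products of localization functors;
* `isIso_ε`: the counit of `⊗^L` is an isomorphism on pairs of K-projective complexes, and on pairs one
  member of which is K-flat (`kFlatComputes`);
* `hasLTen`, `hasLTen₃`: existence of the derived functors.
-/

set_option autoImplicit false

universe u

open CategoryTheory CategoryTheory.Limits MonoidalCategory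

attribute [local instance] HasDerivedCategory.standard

namespace K786.Good

open Groth.Agent.LoccohB DerivedCategory LTen DTen

section Abs

universe v₁ v₂ v₃ v₄ v₅ u₁ u₂ u₃ u₄ u₅

variable {C₁ : Type u₁} {C₂ : Type u₂} {D₁ : Type u₃} {D₂ : Type u₄} {H : Type u₅}
  [Category.{v₁} C₁] [Category.{v₂} C₂] [Category.{v₃} D₁] [Category.{v₄} D₂] [Category.{v₅} H]

/-- Lifting of maps out of a pair. -/
lemma liftsFrom_prod {L₁ : C₁ ⥤ D₁} {L₂ : C₂ ⥤ D₂} {X₁ : C₁} {X₂ : C₂}
    (h₁ : DerAbs.LiftsFrom L₁ X₁) (h₂ : DerAbs.LiftsFrom L₂ X₂) :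
    DerAbs.LiftsFrom (L₁.prod L₂) (X₁, X₂) := by
  rintro ⟨Y₁, Y₂⟩ ⟨f₁, f₂⟩
  obtain ⟨g₁, rfl⟩ := h₁ f₁
  obtain ⟨g₂, rfl⟩ := h₂ f₂
  exact ⟨(g₁, g₂), rfl⟩

end Abs

variable {A B C : Type u} [CommRing A] [CommRing B] [CommRing C]

/-- Two maps out of `K` that become equal in the derived category are homotopic if `K` is K-projective. -/
lemma htpy {P K : DRing.Cx A} [P.IsKProjective] {f g : P ⟶ K} (h : Q.map f = Q.map g) :
    Nonempty (Homotopy f g) := KDer.homotopy_of_Q_map_eq_of_isKProjective h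

/-- `F` is homotopy invariant on pairs. -/
def HInv₂ {H : Type*} [Category* H] (F : DRing.Cx A × DRing.Cx B ⥤ H) : Prop :=
  ∀ ⦃K K' : DRing.Cx A⦄ ⦃L L' : DRing.Cx B⦄ (f f' : K ⟶ K') (g g' : L ⟶ L'),
    Homotopy f f' → Homotopy g g' → F.map (Prod.mkHom f g) = F.map (Prod.mkHom f' g')

/-- `F` is homotopy invariant on triples. -/
def HInv₃ {H : Type*} [Category* H] (F : DRing.Cx A × (DRing.Cx B × DRing.Cx C) ⥤ H) : Prop :=
  ∀ ⦃K K' : DRing.Cx A⦄ ⦃L L' : DRing.Cx B⦄ ⦃M M' : DRing.Cx C⦄ (f f' : K ⟶ K') (g g' : L ⟶ L')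
    (k k' : M ⟶ M'), Homotopy f f' → Homotopy g g' → Homotopy k k' →
    F.map (X := (K, (L, M))) (Y := (K', (L', M'))) (Prod.mkHom f (Prod.mkHom g k)) =
      F.map (X := (K, (L, M))) (Y := (K', (L', M'))) (Prod.mkHom f' (Prod.mkHom g' k'))

section Two

variable {H : Type*} [Category* H] (F : DRing.Cx A × DRing.Cx B ⥤ H) (hF : HInv₂ F)

include hF in
lemma identFrom₂ (P : DRing.Cx A) (P' : DRing.Cx B) [P.IsKProjective] [P'.IsKProjective] :
    DerAbs.IdentFrom ((Q (C := ModuleCat.{u} A)).prod (Q (C := ModuleCat.{u} B))) F (P, P') := by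
  rintro ⟨Y₁, Y₂⟩ ⟨f, g⟩ ⟨f', g'⟩ h
  obtain ⟨h1⟩ := htpy (f := f) (g := f') (congrArg Prod.fst h)
  obtain ⟨h2⟩ := htpy (f := g) (g := g') (congrArg Prod.snd h)
  exact hF f f' g g' h1 h2

lemma liftsFrom₂ (P : DRing.Cx A) (P' : DRing.Cx B) [P.IsKProjective] [P'.IsKProjective] :
    DerAbs.LiftsFrom ((Q (C := ModuleCat.{u} A)).prod (Q (C := ModuleCat.{u} B))) (P, P') :=
  liftsFrom_prod (KDer.liftsFrom_Q P) (KDer.liftsFrom_Q P')

/-- K-projective resolutions of pairs -/
lemma exists_res₂ (X : DRing.Cx A × DRing.Cx B) :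
    ∃ (P : DRing.Cx A) (P' : DRing.Cx B) (w : (P, P') ⟶ X), P.IsKProjective ∧ P'.IsKProjective ∧
      ((qis A).prod (qis B)) w := by
  obtain ⟨P, p, hP, hp⟩ := KDer.enoughKProjectives_moduleCat A X.1
  obtain ⟨P', p', hP', hp'⟩ := KDer.enoughKProjectives_moduleCat B X.2
  exact ⟨P, P', (p, p'), hP, hP', ⟨hp, hp'⟩⟩

include hF in
/-- existence of pointwise left derived functors in two variables. -/
theorem hasPointwise₂ : F.HasPointwiseLeftDerivedFunctor ((qis A).prod (qis B)) := by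
  apply DerAbs.hasPointwiseLeftDerivedFunctor
    ((Q (C := ModuleCat.{u} A)).prod (Q (C := ModuleCat.{u} B)))
  intro X
  obtain ⟨P, P', w, hP, hP', hw⟩ := exists_res₂ X
  exact ⟨_, w, hw, liftsFrom₂ P P', identFrom₂ F hF P P'⟩

include hF in
/-- existence of left derived functors in two variables. -/
theorem hasLeft₂ : F.HasLeftDerivedFunctor ((qis A).prod (qis B)) := by
  have := hasPointwise₂ F hF
  infer_instance

include hF in
/-- The counit is an isomorphism on pairs of K-projective complexes. -/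
theorem isIso_counit₂ {G : Dual.D A × Dual.D B ⥤ H}
    (α : (Q (C := ModuleCat.{u} A)).prod (Q (C := ModuleCat.{u} B)) ⋙ G ⟶ F)
    [G.IsLeftDerivedFunctor α ((qis A).prod (qis B))] (P : DRing.Cx A) (P' : DRing.Cx B)
    [P.IsKProjective] [P'.IsKProjective] : IsIso (α.app (P, P')) := by
  have := hasPointwise₂ F hF
  exact DerAbs.isIso_app_of_isLeftDerivedFunctor ((qis A).prod (qis B)) α (liftsFrom₂ P P')
    (identFrom₂ F hF P P')

/-- criterion to be a left derived functor -/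
theorem isLeftDerived₂_of_isIso {G : Dual.D A × Dual.D B ⥤ H}
    (α : (Q (C := ModuleCat.{u} A)).prod (Q (C := ModuleCat.{u} B)) ⋙ G ⟶ F)
    (hα : ∀ (P : DRing.Cx A) (P' : DRing.Cx B) [P.IsKProjective] [P'.IsKProjective],
      IsIso (α.app (P, P'))) :
    G.IsLeftDerivedFunctor α ((qis A).prod (qis B)) := by
  refine (DerAbs.isLeftDerivedFunctor_of_isIso _ _ α fun X => ?_).1
  obtain ⟨P, P', w, hP, hP', hw⟩ := exists_res₂ X
  exact ⟨_, w, hw, liftsFrom₂ P P', hα P P'⟩

/-- If `F` inverts `w : X ⟶ X'` in the sense that `F.map w` is an isomorphism, with `w` a pair of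
quasi-isomorphisms from a pair where the counit is an isomorphism, the counit is an isomorphism at `X'`. -/
lemma isIso_app_of_map {C₁ D₁ : Type*} [Category* C₁] [Category* D₁] {L : C₁ ⥤ D₁}
    {F : C₁ ⥤ H} {G : D₁ ⥤ H} (α : L ⋙ G ⟶ F) {X X' : C₁} (w : X ⟶ X') [IsIso (L.map w)]
    [IsIso (F.map w)] [IsIso (α.app X)] : IsIso (α.app X') := by
  have h1 := α.naturality w
  have h2 : α.app X' = inv (G.map (L.map w)) ≫ α.app X ≫ F.map w := by
    rw [IsIso.eq_inv_comp]
    exact h1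
  rw [h2]
  infer_instance

/-- converse direction -/
lemma isIso_app_of_map' {C₁ D₁ : Type*} [Category* C₁] [Category* D₁] {L : C₁ ⥤ D₁}
    {F : C₁ ⥤ H} {G : D₁ ⥤ H} (α : L ⋙ G ⟶ F) {X X' : C₁} (w : X ⟶ X') [IsIso (L.map w)]
    [IsIso (F.map w)] [IsIso (α.app X')] : IsIso (α.app X) := by
  have h1 := α.naturality w
  have h2 : α.app X = G.map (L.map w) ≫ α.app X' ≫ inv (F.map w) := by
    rw [← Category.assoc, IsIso.eq_comp_inv]
    exact h1.symm
  rw [h2]
  infer_instance

end Two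

section Three

variable {H : Type*} [Category* H] (F : DRing.Cx A × (DRing.Cx B × DRing.Cx C) ⥤ H) (hF : HInv₃ F)

include hF in
lemma identFrom₃ (P : DRing.Cx A) (P' : DRing.Cx B) (P'' : DRing.Cx C) [P.IsKProjective]
    [P'.IsKProjective] [P''.IsKProjective] :
    DerAbs.IdentFrom ((Q (C := ModuleCat.{u} A)).prod
      ((Q (C := ModuleCat.{u} B)).prod (Q (C := ModuleCat.{u} C)))) F (P, (P', P'')) := by
  rintro ⟨Y₁, Y₂, Y₃⟩ ⟨f, g, k⟩ ⟨f', g', k'⟩ h
  obtain ⟨h1⟩ := htpy (f := f) (g := f') (congrArg Prod.fst h)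
  obtain ⟨h2⟩ := htpy (f := g) (g := g') (congrArg (fun x => x.2.1) h)
  obtain ⟨h3⟩ := htpy (f := k) (g := k') (congrArg (fun x => x.2.2) h)
  exact hF f f' g g' k k' h1 h2 h3

lemma liftsFrom₃ (P : DRing.Cx A) (P' : DRing.Cx B) (P'' : DRing.Cx C) [P.IsKProjective]
    [P'.IsKProjective] [P''.IsKProjective] :
    DerAbs.LiftsFrom ((Q (C := ModuleCat.{u} A)).prod
      ((Q (C := ModuleCat.{u} B)).prod (Q (C := ModuleCat.{u} C)))) (P, (P', P'')) :=
  liftsFrom_prod (KDer.liftsFrom_Q P) (liftsFrom₂ P' P'')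

/-- K-projective resolutions of triples -/
lemma exists_res₃ (X : DRing.Cx A × (DRing.Cx B × DRing.Cx C)) :
    ∃ (P : DRing.Cx A) (P' : DRing.Cx B) (P'' : DRing.Cx C) (w : (P, (P', P'')) ⟶ X),
      P.IsKProjective ∧ P'.IsKProjective ∧ P''.IsKProjective ∧
      ((qis A).prod ((qis B).prod (qis C))) w := by
  obtain ⟨P, p, hP, hp⟩ := KDer.enoughKProjectives_moduleCat A X.1
  obtain ⟨P', p', hP', hp'⟩ := KDer.enoughKProjectives_moduleCat B X.2.1
  obtain ⟨P'', p'', hP'', hp''⟩ := KDer.enoughKProjectives_moduleCat C X.2.2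
  exact ⟨P, P', P'', (p, (p', p'')), hP, hP', hP'', ⟨hp, ⟨hp', hp''⟩⟩⟩

include hF in
/-- existence of pointwise left derived functors in three variables. -/
theorem hasPointwise₃ :
    F.HasPointwiseLeftDerivedFunctor ((qis A).prod ((qis B).prod (qis C))) := by
  apply DerAbs.hasPointwiseLeftDerivedFunctor ((Q (C := ModuleCat.{u} A)).prod
      ((Q (C := ModuleCat.{u} B)).prod (Q (C := ModuleCat.{u} C))))
  intro X
  obtain ⟨P, P', P'', w, hP, hP', hP'', hw⟩ := exists_res₃ X
  exact ⟨_, w, hw, liftsFrom₃ P P' P'', identFrom₃ F hF P P' P''⟩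

include hF in
/-- existence of left derived functors in three variables. -/
theorem hasLeft₃ : F.HasLeftDerivedFunctor ((qis A).prod ((qis B).prod (qis C))) := by
  have := hasPointwise₃ F hF
  infer_instance

include hF in
/-- The counit is an isomorphism on triples of K-projective complexes. -/
theorem isIso_counit₃ {G : Dual.D A × (Dual.D B × Dual.D C) ⥤ H}
    (α : (Q (C := ModuleCat.{u} A)).prod
      ((Q (C := ModuleCat.{u} B)).prod (Q (C := ModuleCat.{u} C))) ⋙ G ⟶ F)
    [G.IsLeftDerivedFunctor α ((qis A).prod ((qis B).prod (qis C)))] (P : DRing.Cx A)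
    (P' : DRing.Cx B) (P'' : DRing.Cx C)
    [P.IsKProjective] [P'.IsKProjective] [P''.IsKProjective] : IsIso (α.app (P, (P', P''))) := by
  have := hasPointwise₃ F hF
  exact DerAbs.isIso_app_of_isLeftDerivedFunctor ((qis A).prod ((qis B).prod (qis C))) α
    (liftsFrom₃ P P' P'') (identFrom₃ F hF P P' P'')

end Three

/-! ### The tensor product on `D(A)` -/

section Tensor

/-- homotopies of whiskered maps -/
noncomputable def tensorHtpy {K K' L L' : DRing.Cx A} {f f' : K ⟶ K'} {g g' : L ⟶ L'}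
    (h : Homotopy f f') (k : Homotopy g g') : Homotopy (f ▷ L ≫ K' ◁ g) (f' ▷ L ≫ K' ◁ g') :=
  ((whiskerRightHomotopy h L).compRight (K' ◁ g)).trans
    ((whiskerLeftHomotopy K' k).compLeft (f' ▷ L))

lemma hinv_tensor₂ : HInv₂ (tensor₂ A) := fun _ _ _ _ _ _ _ _ h k =>
  Q_map_eq_of_homotopy (tensorHtpy h k)

lemma hinv_tensor₃ : HInv₃ (tensor₃ A) := fun _ _ _ _ _ _ _ _ _ _ _ _ h k l =>
  Q_map_eq_of_homotopy (tensorHtpy h (tensorHtpy k l))

variable (A) in
/-- the derived tensor product exists -/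
theorem hasLTen : HasLTen A := hasLeft₂ _ hinv_tensor₂

variable (A) in
/-- the derived triple tensor product exists -/
theorem hasLTen₃ : HasLTen₃ A := hasLeft₃ _ hinv_tensor₃

/-- the counit is an isomorphism on K-projective pairs -/
instance isIso_ε [HasLTen A] (P P' : DRing.Cx A) [P.IsKProjective] [P'.IsKProjective] :
    IsIso ((ε A).app (P, P')) :=
  isIso_counit₂ (tensor₂ A) hinv_tensor₂ (ε A) P P'

/-- the counit is an isomorphism on K-projective triples -/
instance isIso_ε₃ [HasLTen₃ A] (P P' P'' : DRing.Cx A) [P.IsKProjective] [P'.IsKProjective]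
    [P''.IsKProjective] : IsIso ((ε₃ A).app (P, (P', P''))) :=
  isIso_counit₃ (tensor₃ A) hinv_tensor₃ (ε₃ A) P P' P''

end Tensor

/-! ### K-flat complexes -/

section KFlat

lemma isKFlat_iff (K : DRing.Cx A) :
    DRing.IsKFlat A K ↔ ∀ M : DRing.Cx A, M.Acyclic → (M ⊗ K : DRing.Cx A).Acyclic := by
  unfold DRing.IsKFlat
  simp only [HomologicalComplex.Acyclic, HomologicalComplex.exactAt_iff_isZero_homology]

/-- if `K` is K-flat, `- ⊗ K` preserves quasi-isomorphisms -/
theorem quasiIso_whiskerRight_of_isKFlat {K : DRing.Cx A} (hK : DRing.IsKFlat A K)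
    {M M' : DRing.Cx A} (f : M ⟶ M') [QuasiIso f] : QuasiIso (f ▷ K) := by
  have h := Groth.Agent.Dcoh.CxFun.quasiIso_map
    ((curriedTensor (ModuleCat.{u} A)).map₂CochainComplex.flip.obj K)
    (fun L hL => (isKFlat_iff K).1 hK L hL) f
  have e : ((curriedTensor (ModuleCat.{u} A)).map₂CochainComplex.flip.obj K).map f = f ▷ K := rfl
  rw [e] at h
  exact h

/-- if `K` is K-flat, `K ⊗ -` preserves quasi-isomorphisms -/
theorem quasiIso_whiskerLeft_of_isKFlat {K : DRing.Cx A} (hK : DRing.IsKFlat A K)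
    {M M' : DRing.Cx A} (f : M ⟶ M') [QuasiIso f] : QuasiIso (K ◁ f) := by
  have := quasiIso_whiskerRight_of_isKFlat hK f
  have e : K ◁ f = (swapIso M K).inv ≫ (f ▷ K) ≫ (swapIso M' K).hom := by
    rw [Iso.eq_inv_comp]
    exact (swap_naturality f K).symm
  rw [e]
  infer_instance

lemma quasiIso_of_acyclic {K L : DRing.Cx A} (f : K ⟶ L) (hK : K.Acyclic) (hL : L.Acyclic) :
    QuasiIso f := by
  rw [quasiIso_iff]
  intro i
  rw [quasiIsoAt_iff_exactAt _ _ (hK i)]
  exact hL i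

lemma zero_whiskerRight' (M M' K : DRing.Cx A) : (0 : M ⟶ M') ▷ K = 0 :=
  TenCx.cx_hom_ext fun p q n h x y => by
    refine (TenCx.whiskerRight_tmk (0 : M ⟶ M') K p q n h x y).trans ?_
    change TenCx.tmk M' K p q n h 0 y = 0
    rw [map_zero, LinearMap.zero_apply]

lemma isIso_prod {C₁ C₂ : Type*} [Category* C₁] [Category* C₂] {X X' : C₁} {Y Y' : C₂} (f : X ⟶ X')
    (g : Y ⟶ Y') [IsIso f] [IsIso g] : IsIso (Prod.mkHom f g) :=
  (isIso_prod_iff _ _).2 ⟨inferInstance, inferInstance⟩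

/-- K-projective complexes are K-flat -/
theorem isKFlat_of_isKProjective (P : DRing.Cx A) [P.IsKProjective] : DRing.IsKFlat A P := by
  rw [isKFlat_iff]
  intro M hM
  have h0 : QuasiIso (0 : M ⟶ M) := quasiIso_of_acyclic _ hM hM
  have h1 : QuasiIso ((0 : M ⟶ M) ▷ P) := quasiIso_whiskerRight P _
  rw [zero_whiskerRight'] at h1
  intro n
  rw [HomologicalComplex.exactAt_iff_isZero_homology, Limits.IsZero.iff_id_eq_zero]
  have h2 : IsIso (HomologicalComplex.homologyMap
    (0 : (M ⊗ P : DRing.Cx A) ⟶ (M ⊗ P : DRing.Cx A)) n) := inferInstance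
  rw [HomologicalComplex.homologyMap_zero] at h2
  rw [← IsIso.hom_inv_id (0 : (M ⊗ P : DRing.Cx A).homology n ⟶ (M ⊗ P : DRing.Cx A).homology n),
    zero_comp]

/-- quasi-isomorphisms between K-flat complexes are universal -/
theorem quasiIso_whiskerRight_of_isKFlat' {K K' : DRing.Cx A} (hK : DRing.IsKFlat A K)
    (hK' : DRing.IsKFlat A K') (f : K ⟶ K') [QuasiIso f] (M : DRing.Cx A) : QuasiIso (f ▷ M) := by
  obtain ⟨P, p, hP, hp⟩ := KDer.enoughKProjectives_moduleCat A M
  have h1 : QuasiIso (f ▷ P) := quasiIso_whiskerRight P f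
  have h2 : QuasiIso (K ◁ p) := quasiIso_whiskerLeft_of_isKFlat hK p
  have h3 : QuasiIso (K' ◁ p) := quasiIso_whiskerLeft_of_isKFlat hK' p
  have e : (K ◁ p) ≫ (f ▷ M) = (f ▷ P) ≫ (K' ◁ p) := whisker_exchange f p
  have h4 : QuasiIso ((K ◁ p) ≫ (f ▷ M)) := by
    rw [e]
    infer_instance
  exact quasiIso_of_comp_left (K ◁ p) _

/-- quasi-isomorphisms between K-flat complexes are universal -/
theorem quasiIso_whiskerLeft_of_isKFlat' {K K' : DRing.Cx A} (hK : DRing.IsKFlat A K)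
    (hK' : DRing.IsKFlat A K') (f : K ⟶ K') [QuasiIso f] (M : DRing.Cx A) : QuasiIso (M ◁ f) := by
  have := quasiIso_whiskerRight_of_isKFlat' hK hK' f M
  have e : M ◁ f = (swapIso K M).inv ≫ (f ▷ M) ≫ (swapIso K' M).hom := by
    rw [Iso.eq_inv_comp]
    exact (swap_naturality f M).symm
  rw [e]
  infer_instance

instance isIso_Q_map {K L : DRing.Cx A} (f : K ⟶ L) [QuasiIso f] : IsIso (Q.map f) := inferInstance

/-- The counit is an isomorphism if the second complex is K-flat. -/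
theorem isIso_ε_right [HasLTen A] (K L : DRing.Cx A) (hL : DRing.IsKFlat A L) :
    IsIso ((ε A).app (K, L)) := by
  obtain ⟨P, p, hP, hp⟩ := KDer.enoughKProjectives_moduleCat A K
  obtain ⟨P', p', hP', hp'⟩ := KDer.enoughKProjectives_moduleCat A L
  have h1 : QuasiIso (p ▷ L) := quasiIso_whiskerRight_of_isKFlat hL p
  have h2 : QuasiIso (P ◁ p') := quasiIso_whiskerLeft P p'
  let w : (P, P') ⟶ (K, L) := (p, p')
  have e : (tensor₂ A).map w = Q.map (P ◁ p') ≫ Q.map (p ▷ L) := by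
    rw [← Functor.map_comp, whisker_exchange]
    rfl
  have : IsIso ((tensor₂ A).map w) := by
    rw [e]
    infer_instance
  have : IsIso ((QQ A).map w) := by
    change IsIso (Prod.mkHom (Q.map p) (Q.map p'))
    exact isIso_prod _ _
  exact isIso_app_of_map (ε A) w

/-- The counit is an isomorphism if the first complex is K-flat. -/
theorem isIso_ε_left [HasLTen A] (K L : DRing.Cx A) (hK : DRing.IsKFlat A K) :
    IsIso ((ε A).app (K, L)) := by
  obtain ⟨P, p, hP, hp⟩ := KDer.enoughKProjectives_moduleCat A K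
  obtain ⟨P', p', hP', hp'⟩ := KDer.enoughKProjectives_moduleCat A L
  have h1 : QuasiIso (p ▷ P') := quasiIso_whiskerRight P' p
  have h2 : QuasiIso (K ◁ p') := quasiIso_whiskerLeft_of_isKFlat hK p'
  let w : (P, P') ⟶ (K, L) := (p, p')
  have e : (tensor₂ A).map w = Q.map (p ▷ P') ≫ Q.map (K ◁ p') := by
    rw [← Functor.map_comp]
    rfl
  have : IsIso ((tensor₂ A).map w) := by
    rw [e]
    infer_instance
  have : IsIso ((QQ A).map w) := by
    change IsIso (Prod.mkHom (Q.map p) (Q.map p'))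
    exact isIso_prod _ _
  exact isIso_app_of_map (ε A) w

variable (A) in
/-- The derived tensor product is computed by K-flat complexes. -/
theorem kFlatComputes [HasLTen A] : KFlatComputes A where
  isIso_counit K L h := h.elim (isIso_ε_left K L) (isIso_ε_right K L)

end KFlat


end K786.Good
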