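import Groth.Agent.LoccohB.RelT
import Groth.Agent.DTen.K786.Good
import Groth.Prelude.Def_DTen4

/-!
# Derived base change, the mixed derived tensor product

* `isIso_baseCmp`: `(QP) ⊗^L_R A ⟶ Q (P ⊗_R A)` is an isomorphism for `P` K-projective, and
  (`isIso_baseCmp_of_isKFlat`) for `P` K-flat;
* `quasiIso_extCx`: extension of scalars preserves quasi-isomorphisms of K-flat complexes;
* `isIso_εMix`, `isIso_εMix_of_isKFlat`: the counit of the mixed derived tensor product;
* `isIso_split`.
-/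

set_option autoImplicit false

universe u

open CategoryTheory CategoryTheory.Limits MonoidalCategory

attribute [local instance] HasDerivedCategory.standard

namespace K786.Base

open Groth.Agent.LoccohB DerivedCategory LTen DTen K786.Good

section Yoneda

variable {C : Type*} [Category* C] [Abelian C] [HasDerivedCategory C]

lemma isIso_of_bijective_Q {K L : DerivedCategory C} (f : K ⟶ L)
    (h : ∀ (J : CochainComplex C ℤ), Function.Bijective (fun g : L ⟶ Q.obj J => f ≫ g)) :
    IsIso f := by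
  have h' : ∀ M : DerivedCategory C, Function.Bijective (fun g : L ⟶ M => f ≫ g) := by
    intro M
    let J := Q.objPreimage M
    let e : Q.obj J ≅ M := Q.objObjPreimageIso M
    constructor
    · intro g g' hg
      have : g ≫ e.inv = g' ≫ e.inv := by
        apply (h J).1
        dsimp only
        rw [← Category.assoc, ← Category.assoc]
        exact congrArg (· ≫ e.inv) hg
      exact (cancel_mono e.inv).1 this
    · intro g
      obtain ⟨g', hg'⟩ := (h J).2 (g ≫ e.inv)
      refine ⟨g' ≫ e.hom, ?_⟩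
      dsimp only at hg' ⊢
      rw [← Category.assoc, hg', Category.assoc, e.inv_hom_id, Category.comp_id]
  obtain ⟨g, hg⟩ := (h' K).2 (𝟙 K)
  refine ⟨g, hg, ?_⟩
  apply (h' L).1
  dsimp only at hg ⊢
  rw [← Category.assoc, hg, Category.id_comp, Category.comp_id]

end Yoneda

variable {R A : Type u} [CommRing R] [CommRing A] (φ : R →+* A)

/-- the unit of the adjunction on complexes is `unitCx` -/
lemma adjE_unit (K : DRing.Cx R) : (ProjF.adjE φ).unit.app K = (unitCx φ).app K := rfl

section BaseCmp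

variable [HasLBase φ]

/-- The transpose of `baseCmp ≫ Q g`. -/
lemma homEquiv_baseCmp (K : DRing.Cx R) {L : DRing.Cx A} (g : (extCx φ).obj K ⟶ L) :
    (baseAdj φ).homEquiv (Q.obj K) (Q.obj L) ((baseCmp φ).app K ≫ Q.map g) =
      Q.map ((ProjF.adjE φ).homEquiv K L g) ≫ (resFactors φ).inv.app L := by
  rw [Adjunction.homEquiv_unit, Functor.map_comp, ← Category.assoc, baseCmp_fac]
  have h1 := (resFactors φ).inv.naturality g
  have h2 : (ProjF.adjE φ).homEquiv K L g = (unitCx φ).app K ≫ (resCx φ).map g :=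
    (ProjF.adjE φ).homEquiv_unit _ _ _
  rw [h2, Functor.map_comp, Category.assoc]
  dsimp [baseγ] at h1 ⊢
  rw [Category.assoc, ← h1]

/-- Derived base change is computed termwise on K-projective complexes. -/
instance isIso_baseCmp (P : DRing.Cx R) [P.IsKProjective] : IsIso ((baseCmp φ).app P) := by
  apply isIso_of_bijective_Q
  intro L
  have hP : ((extCx φ).obj P).IsKProjective := RelT.isKProjective_extCx φ P
  constructor
  · intro g g' hg
    obtain ⟨g, rfl⟩ := KDer.liftsFrom_Q ((extCx φ).obj P) g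
    obtain ⟨g', rfl⟩ := KDer.liftsFrom_Q ((extCx φ).obj P) g'
    have h1 := congrArg ((baseAdj φ).homEquiv (Q.obj P) (Q.obj L)) hg
    dsimp only at h1
    rw [homEquiv_baseCmp, homEquiv_baseCmp, cancel_mono] at h1
    obtain ⟨h⟩ := htpy h1
    apply LTen.Q_map_eq_of_homotopy
    have h2 := (ModuleCat.extendScalars.{u, u, u} φ).mapHomotopy h
    have h3 := h2.compRight ((ProjF.adjE φ).counit.app L)
    have e : ∀ g : (extCx φ).obj P ⟶ L, (extCx φ).map ((ProjF.adjE φ).homEquiv P L g) ≫
        (ProjF.adjE φ).counit.app L = g := fun g =>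
      ((ProjF.adjE φ).homEquiv_counit _ _ _).symm.trans
        (((ProjF.adjE φ).homEquiv P L).symm_apply_apply g)
    exact (Homotopy.ofEq (e g).symm).trans (h3.trans (Homotopy.ofEq (e g')))
  · intro f
    obtain ⟨k, hk⟩ := KDer.liftsFrom_Q P ((baseAdj φ).homEquiv (Q.obj P) (Q.obj L) f ≫
      (resFactors φ).hom.app L)
    obtain ⟨g, rfl⟩ := ((ProjF.adjE φ).homEquiv P L).surjective k
    refine ⟨Q.map g, ?_⟩
    apply ((baseAdj φ).homEquiv (Q.obj P) (Q.obj L)).injective
    refine (homEquiv_baseCmp φ P g).trans ?_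
    rw [hk, Category.assoc, Iso.hom_inv_id_app]
    exact Category.comp_id _

end BaseCmp

section Flat

/-- naturality of `K ⊗ (A|_R) ≅ (K_A)|_R` -/
lemma quasiIso_extCx_iff {K K' : DRing.Cx R} (f : K ⟶ K') :
    QuasiIso ((extCx φ).map f) ↔ QuasiIso (f ▷ (resCx φ).obj (𝟙_ (DRing.Cx A))) := by
  have h1 := ProjF.projMap_naturality φ K (𝟙_ (DRing.Cx A)) f
  have h2 := rightUnitor_naturality ((extCx φ).map f)
  have e1 : QuasiIso (f ▷ (resCx φ).obj (𝟙_ (DRing.Cx A))) ↔
      QuasiIso ((resCx φ).map ((extCx φ).map f ▷ (𝟙_ (DRing.Cx A)))) := by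
    have a1 : QuasiIso (ProjF.projMap φ K (𝟙_ (DRing.Cx A))) := inferInstance
    have a2 : QuasiIso (ProjF.projMap φ K' (𝟙_ (DRing.Cx A))) := inferInstance
    rw [← quasiIso_iff_comp_right (f ▷ (resCx φ).obj (𝟙_ (DRing.Cx A)))
      (ProjF.projMap φ K' (𝟙_ (DRing.Cx A)))]
    rw [h1]
    exact quasiIso_iff_comp_left _ _
  have e2 : QuasiIso ((resCx φ).map ((extCx φ).map f ▷ (𝟙_ (DRing.Cx A)))) ↔
      QuasiIso ((extCx φ).map f ▷ (𝟙_ (DRing.Cx A))) :=
    HomologicalComplex.quasiIso_map_iff_of_preservesHomology _ _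
  have e3 : QuasiIso ((extCx φ).map f ▷ (𝟙_ (DRing.Cx A))) ↔ QuasiIso ((extCx φ).map f) := by
    rw [← quasiIso_iff_comp_right ((extCx φ).map f ▷ (𝟙_ (DRing.Cx A))) (ρ_ ((extCx φ).obj K')).hom,
      h2]
    exact quasiIso_iff_comp_left _ _
  rw [e1, e2, e3]

/-- extension of scalars preserves quasi-isomorphisms between K-flat complexes -/
theorem quasiIso_extCx {K K' : DRing.Cx R} (hK : DRing.IsKFlat R K) (hK' : DRing.IsKFlat R K')
    (f : K ⟶ K') [QuasiIso f] : QuasiIso ((extCx φ).map f) :=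
  (quasiIso_extCx_iff φ f).2 (quasiIso_whiskerRight_of_isKFlat' hK hK' f _)

/-- extension of scalars preserves K-flat complexes -/
theorem isKFlat_extCx {K : DRing.Cx R} (hK : DRing.IsKFlat R K) :
    DRing.IsKFlat A ((extCx φ).obj K) := by
  rw [isKFlat_iff]
  intro M hM
  have h1 : ((resCx φ).obj M).Acyclic := fun n => (hM n).map (ModuleCat.restrictScalars.{u} φ)
  have h3 : QuasiIso (0 : M ⟶ M) := quasiIso_of_acyclic _ hM hM
  have h4 : QuasiIso ((resCx φ).map (0 : M ⟶ M)) := inferInstance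
  have h5 : QuasiIso (K ◁ (resCx φ).map (0 : M ⟶ M)) := quasiIso_whiskerLeft_of_isKFlat hK _
  have h6 := ProjF.projMap_naturality_right φ K M (0 : M ⟶ M)
  have h7 : QuasiIso ((resCx φ).map ((extCx φ).obj K ◁ (0 : M ⟶ M))) := by
    have : QuasiIso (ProjF.projMap φ K M ≫ (resCx φ).map ((extCx φ).obj K ◁ (0 : M ⟶ M))) := by
      rw [← h6]
      infer_instance
    exact quasiIso_of_comp_left (ProjF.projMap φ K M) _
  have h8 : QuasiIso ((extCx φ).obj K ◁ (0 : M ⟶ M)) := by
    rwa [HomologicalComplex.quasiIso_map_iff_of_preservesHomology] at h7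
  have h9 : QuasiIso ((0 : M ⟶ M) ▷ (extCx φ).obj K) := by
    have e : (0 : M ⟶ M) ▷ (extCx φ).obj K = (swapIso M ((extCx φ).obj K)).hom ≫
        ((extCx φ).obj K ◁ (0 : M ⟶ M)) ≫ (swapIso M ((extCx φ).obj K)).inv := by
      rw [← Category.assoc, Iso.eq_comp_inv]
      exact swap_naturality _ _
    rw [e]
    infer_instance
  rw [zero_whiskerRight'] at h9
  intro n
  rw [HomologicalComplex.exactAt_iff_isZero_homology, Limits.IsZero.iff_id_eq_zero]
  have h10 : IsIso (HomologicalComplex.homologyMap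
    (0 : (M ⊗ (extCx φ).obj K : DRing.Cx A) ⟶ (M ⊗ (extCx φ).obj K : DRing.Cx A)) n) :=
    inferInstance
  rw [HomologicalComplex.homologyMap_zero] at h10
  rw [← IsIso.hom_inv_id (0 : (M ⊗ (extCx φ).obj K : DRing.Cx A).homology n ⟶
    (M ⊗ (extCx φ).obj K : DRing.Cx A).homology n), zero_comp]

/-- Derived base change is computed termwise on K-flat complexes. -/
theorem isIso_baseCmp_of_isKFlat [HasLBase φ] (K : DRing.Cx R) (hK : DRing.IsKFlat R K) :
    IsIso ((baseCmp φ).app K) := by
  obtain ⟨P, p, hP, hp⟩ := KDer.enoughKProjectives_moduleCat R K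
  have h1 : QuasiIso ((extCx φ).map p) := quasiIso_extCx φ (isKFlat_of_isKProjective P) hK p
  have h2 : IsIso ((extCx φ ⋙ Q).map p) := by
    change IsIso (Q.map ((extCx φ).map p))
    infer_instance
  exact isIso_app_of_map (baseCmp φ) p

end Flat

end K786.Base
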