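import Groth.Agent.DTen.K786.BcR2

/-!
# `bcRHom` is an isomorphism if `theta` is a quasi-isomorphism

* `isIso_bcRHom_of_theta`;
* `isIso_bcRHom_of_isPerfect`, `isIso_bcRHom_of_isPerfectModule`.
-/

set_option autoImplicit false

universe u

open CategoryTheory CategoryTheory.Limits MonoidalCategory CochainComplex CochainComplex.HomComplex

attribute [local instance] HasDerivedCategory.standard

namespace K786.BcMain

open Groth.Agent.LoccohB Groth.Agent.LoccohB.TenCx DTen K786.Good K786.Base K786.Mix K786.Res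
  K786.RhomBC K785.EvTen K785.HomC K786.BcR K786.BcR2

section

variable {A : Type u} [CommRing A]

lemma quasiIso_theta_left_iff {N N' F J : DRing.Cx A} (f : N ⟶ N') [QuasiIso f]
    [F.IsKProjective] (hN : DRing.IsKFlat A N) (hN' : DRing.IsKFlat A N') :
    QuasiIso (ThetaHom.theta N F J) ↔ QuasiIso (ThetaHom.theta N' F J) := by
  have h := theta_left f F J
  have h1 : QuasiIso (f ▷ J) := quasiIso_whiskerRight_of_isKFlat' hN hN' f J
  have h2 : QuasiIso (DRing.homCxMap F (f ▷ J)) := ThetaHom.quasiIso_homCxMap F _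
  have h3 : QuasiIso (f ▷ DRing.homCx F J) := quasiIso_whiskerRight_of_isKFlat' hN hN' f _
  rw [← quasiIso_comp_iff_left (ThetaHom.theta N F J) (DRing.homCxMap F (f ▷ J)), ← h,
    quasiIso_comp_iff_right]

end

variable {R R' : Type u} [CommRing R] [CommRing R'] (φ : R →+* R')
  [HasLTen R] [HasLTen R'] [HasRHom R] [HasRHom R'] [HasLBase φ] [HasResTen φ] [ResLegIso φ]

/-- `bcRHom` is an isomorphism if `theta` is a quasi-isomorphism, general form. -/
theorem isIso_bcRHom_of_theta {K M : Dual.D R} {P J F : DRing.Cx R} [P.IsKProjective]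
    (hF : DRing.IsKFlat R F) (eF : DerivedCategory.Q.obj F ≅
      DerivedCategory.Q.obj ((resCx φ).obj (𝟙_ (DRing.Cx R'))))
    (eP : DerivedCategory.Q.obj P ≅ K) (eJ : DerivedCategory.Q.obj J ≅ M)
    [IsIso (rhomBC φ K ((LBase φ).obj M))] (h : QuasiIso (ThetaHom.theta F P J)) :
    IsIso (bcRHom φ K M) := by
  obtain ⟨J₁, j, hJ₁, hj, -, -⟩ := KProj.exists_kprojective J
  obtain ⟨F₁, f, hF₁, hf, -, -⟩ := KProj.exists_kprojective F
  obtain ⟨g, hg⟩ := KDer.liftsFrom_Q F₁ (DerivedCategory.Q.map f ≫ eF.hom)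
  have hg1 : IsIso (DerivedCategory.Q.map g) := by rw [hg]; infer_instance
  have hg2 : QuasiIso g := by rwa [DerivedCategory.isIso_Q_map_iff_quasiIso] at hg1
  have hF₁' := isKFlat_of_isKProjective F₁
  have h1 : QuasiIso (ThetaHom.theta F P J₁) := (quasiIso_theta_post_iff j hF).2 h
  have h2 : QuasiIso (ThetaHom.theta F₁ P J₁) := (quasiIso_theta_left_iff f hF₁' hF).2 h1
  have h3 := isIso_rhomBC φ (DerivedCategory.Q.obj P) ((LBase φ).obj (DerivedCategory.Q.obj J₁))
  exact isIso_bcRHom_of_iso φ eP (asIso (DerivedCategory.Q.map j) ≪≫ eJ)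
    (isIso_bcRHom_Q φ (isKFlat_of_isKProjective J₁) hF₁' g h2)

/-- **`bcRHom` is an isomorphism for `K` perfect.** -/
theorem isIso_bcRHom_of_isPerfect (K M : Dual.D R) [IsIso (rhomBC φ K ((LBase φ).obj M))]
    (hK : DRing.IsPerfect R K) : IsIso (bcRHom φ K M) := by
  obtain ⟨P, hP, ⟨D⟩, ⟨eP⟩⟩ := K785.EvTenMain.exists_perfect_rep hK
  obtain ⟨J, hJ, ⟨eJ⟩⟩ := LTen.exists_kproj M
  obtain ⟨F, f, hF, hf, -, -⟩ := KProj.exists_kprojective ((resCx φ).obj (𝟙_ (DRing.Cx R')))
  have := ThetaHom.isIso_theta F D J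
  exact isIso_bcRHom_of_theta φ (isKFlat_of_isKProjective F) (asIso (DerivedCategory.Q.map f))
    eP eJ inferInstance

/-- `R'[0]` over `R`. -/
noncomputable def resUnitIso : DerivedCategory.Q.obj ((resCx φ).obj (𝟙_ (DRing.Cx R'))) ≅
    (DerivedCategory.singleFunctor (ModuleCat.{u} R) 0).obj
      ((ModuleCat.restrictScalars.{u} φ).obj (ModuleCat.of R' R')) :=
  DerivedCategory.Q.mapIso ((HomologicalComplex.singleMapHomologicalComplex
    (ModuleCat.restrictScalars.{u} φ) (ComplexShape.up ℤ) 0).app (ModuleCat.of R' R')) ≪≫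
    ((DerivedCategory.singleFunctorIsoCompQ (ModuleCat.{u} R) 0).app _).symm

/-- `R'` as an `R`-module, two ways. -/
noncomputable def algIso (R R' : Type u) [CommRing R] [CommRing R'] [Algebra R R'] :
    (ModuleCat.restrictScalars.{u} (algebraMap R R')).obj (ModuleCat.of R' R') ≅
      ModuleCat.of R R' :=
  let e : ((ModuleCat.restrictScalars.{u} (algebraMap R R')).obj (ModuleCat.of R' R')) ≃ₗ[R] R' :=
    { toFun := fun x => x
      invFun := fun x => x
      map_add' := fun _ _ => rfl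
      map_smul' := fun r x => by
        change algebraMap R R' r * (show R' from x) = _
        rw [← Algebra.smul_def]
        rfl
      left_inv := fun _ => rfl
      right_inv := fun _ => rfl }
  e.toModuleIso

noncomputable def resUnitIsoAlg (R R' : Type u) [CommRing R] [CommRing R'] [Algebra R R'] :
    DerivedCategory.Q.obj ((resCx (algebraMap R R')).obj (𝟙_ (DRing.Cx R'))) ≅ Dual.inD R R' :=
  resUnitIso (algebraMap R R') ≪≫ (DerivedCategory.singleFunctor (ModuleCat.{u} R) 0).mapIso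
    (algIso R R')

/-- **`bcRHom` is an isomorphism for `R'` perfect over `R`.** -/
theorem isIso_bcRHom_of_isPerfectModule (R R' : Type u) [CommRing R] [CommRing R'] [Algebra R R']
    [HasLTen R] [HasLTen R'] [HasRHom R] [HasRHom R'] [HasLBase (algebraMap R R')]
    [HasResTen (algebraMap R R')] [ResLegIso (algebraMap R R')] (K M : Dual.D R)
    [IsIso (rhomBC (algebraMap R R') K ((LBase (algebraMap R R')).obj M))]
    (hR' : DRing.IsPerfectModule R R') : IsIso (bcRHom (algebraMap R R') K M) := by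
  obtain ⟨N, hN, ⟨D⟩, ⟨eN⟩⟩ := K785.EvTenMain.exists_perfect_rep hR'
  obtain ⟨P, hP, ⟨eP⟩⟩ := LTen.exists_kproj K
  obtain ⟨J, hJ, ⟨eJ⟩⟩ := LTen.exists_kproj M
  have := K785.ThetaN.isIso_theta_left P J D
  exact isIso_bcRHom_of_theta (algebraMap R R') (isKFlat_of_isKProjective N)
    (eN ≪≫ (resUnitIsoAlg R R').symm) eP eJ inferInstance

end K786.BcMain
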