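import Groth.Agent.LoccohB.ThetaHom

/-!
# `theta` for pseudo-coherent complexes

`isIso_theta_of_bounds`: `N ⊗ Hom•(F, J) ⟶ Hom•(F, N ⊗ J)` is an isomorphism for `F` bounded above with
finite projective terms, `J` and `N` bounded below.
-/

set_option autoImplicit false

universe u

open CategoryTheory CategoryTheory.Limits MonoidalCategory CochainComplex CochainComplex.HomComplex

namespace K786.ThetaB

open Groth.Agent.LoccohB Groth.Agent.LoccohB.TenCx Groth.Agent.LoccohB.ThetaHom

variable {A : Type u} [CommRing A]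

/-- A system of finite dual bases of the terms of a complex. -/
structure LDB (F : DRing.Cx A) where
  /-- ranks -/
  r : ℤ → ℕ
  /-- vectors -/
  U : ∀ q, Fin (r q) → F.X q
  /-- covectors -/
  V : ∀ q, Fin (r q) → (F.X q →ₗ[A] A)
  sum_eq : ∀ (q : ℤ) (y : F.X q), ∑ k, V q k y • U q k = y

lemma exists_ldb (F : DRing.Cx A) (h' : DRing.TermwiseFiniteProjective F) : Nonempty (LDB F) := by
  have key : ∀ q, ∃ (r : ℕ) (u : Fin r → F.X q) (v : Fin r → (F.X q →ₗ[A] A)),
      ∀ y, ∑ k, v k y • u k = y := fun q => by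
    have := (h' q).1
    have := (h' q).2
    exact exists_dualBasis (F.X q)
  choose r U V hUV using key
  exact ⟨⟨r, U, V, hUV⟩⟩

variable (N : DRing.Cx A) {F : DRing.Cx A} (D : LDB F) (J : DRing.Cx A)

/-- decomposition of a cochain along the dual bases -/
lemma sum_box (m : ℤ) (S : Finset ℤ)
    (hS : ∀ q, q ∉ S → (∀ y : F.X q, y = 0) ∨ ∀ z : J.X (m + q), z = 0)
    (g : Cochain F J m) :
    ∑ q ∈ S, ∑ k, box F J (s := m + q) m rfl (D.V q k)
      (evC F J m q (m + q) rfl g (D.U q k)) = g := by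
  refine ext_evC fun q' s' h' y => ?_
  subst h'
  rw [map_sum, LinearMap.sum_apply]
  by_cases hq : q' ∈ S
  · rw [Finset.sum_eq_single q' (fun q _ hqq => ?_) (fun h => absurd hq h)]
    · rw [map_sum, LinearMap.sum_apply]
      conv_rhs => rw [← D.sum_eq q' y, map_sum]
      refine Finset.sum_congr rfl fun k _ => ?_
      rw [map_smul]
      exact evC_boxC F J rfl (D.V q' k) _ y
    · rw [map_sum, LinearMap.sum_apply]
      refine Finset.sum_eq_zero fun k _ => ?_
      exact evC_boxC_ne F J rfl (Ne.symm hqq) (D.V q k) _ y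
  · rcases hS q' hq with h | h
    · have hy := h y
      rw [hy, map_zero]
      refine Finset.sum_eq_zero fun q _ => ?_
      rw [map_zero]
    · rw [h (evC F J m q' (m + q') rfl g y)]
      exact Finset.sum_eq_zero fun q _ => h _

/-- the inverse of `theta` in degree `n`. -/
noncomputable def thetaInv (n : ℤ) (S : Finset ℤ) :
    Cochain F (N ⊗ J : DRing.Cx A) n →ₗ[A] (N ⊗ DRing.homCx F J : DRing.Cx A).X n :=
  ∑ q ∈ S, ∑ k, (tbox N F J (D.V q k) (n + q) n rfl).hom ∘ₗ
    (evC F (N ⊗ J : DRing.Cx A) n q (n + q) rfl).flip (D.U q k)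

lemma thetaInv_apply (n : ℤ) (S : Finset ℤ) (z : Cochain F (N ⊗ J : DRing.Cx A) n) :
    thetaInv N D J n S z = ∑ q ∈ S, ∑ k,
      (tbox N F J (D.V q k) (n + q) n rfl).hom
        (evC F (N ⊗ J : DRing.Cx A) n q (n + q) rfl z (D.U q k)) := by
  unfold thetaInv
  simp only [LinearMap.sum_apply, LinearMap.comp_apply, LinearMap.flip_apply]

lemma theta_thetaInv (n : ℤ) (S : Finset ℤ)
    (hS : ∀ q, q ∉ S → (∀ y : F.X q, y = 0) ∨ ∀ z : (N ⊗ J : DRing.Cx A).X (n + q), z = 0)
    (z : Cochain F (N ⊗ J : DRing.Cx A) n) :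
    ((theta N F J).f n).hom (thetaInv N D J n S z) = z := by
  rw [thetaInv_apply, map_sum]
  refine Eq.trans (Finset.sum_congr rfl fun q _ => ?_) (sum_box D (N ⊗ J : DRing.Cx A) n S hS z)
  rw [map_sum]
  refine Finset.sum_congr rfl fun k _ => ?_
  exact tbox_theta N F J (D.V q k) (n + q) n rfl _

lemma thetaInv_theta (n : ℤ) (S : Finset ℤ)
    (hS : ∀ p m, p + m = n → (∀ x : N.X p, x = 0) ∨ ∀ q, q ∉ S → (∀ y : F.X q, y = 0) ∨
      ∀ z : J.X (m + q), z = 0)
    (t : (N ⊗ DRing.homCx F J : DRing.Cx A).X n) :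
    thetaInv N D J n S (((theta N F J).f n).hom t) = t := by
  have : (theta N F J).f n ≫ ModuleCat.ofHom (X := (DRing.homCx F (N ⊗ J : DRing.Cx A)).X n)
      (thetaInv N D J n S) = 𝟙 _ := by
    refine hom_ext_tmk fun p m h x g => ?_
    rcases hS p m h with h0 | h0
    · rw [h0 x]
      have e0 : tmk N (DRing.homCx F J) p m n h 0 g = 0 := by
        rw [map_zero, LinearMap.zero_apply]
      rw [e0, map_zero, map_zero]
    refine (congrArg (thetaInv N D J n S) (theta_tmk N F J p m n h x g)).trans ?_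
    refine (thetaInv_apply N D J n S _).trans ?_
    have e2 := congrArg (tmk N (DRing.homCx F J) p m n h x) (sum_box D J m S h0 g)
    refine Eq.trans ?_ e2
    refine Eq.trans ?_ (map_sum (tmk N (DRing.homCx F J) p m n h x) _ _).symm
    refine Finset.sum_congr rfl fun q _ => ?_
    refine Eq.trans ?_ (map_sum (tmk N (DRing.homCx F J) p m n h x) _ _).symm
    refine Finset.sum_congr rfl fun k _ => ?_
    have e3 := evC_thetaBil N F J p m n h x g q (n + q) (m + q) rfl rfl (D.U q k)
    refine (congrArg (tbox N F J (D.V q k) (n + q) n rfl).hom e3).trans ?_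
    exact tbox_tmk N F J (D.V q k) (n + q) n rfl p m (m + q) (by omega) rfl x _
  exact congr($(this).hom t)

lemma eq_zero_of_isZero {M : ModuleCat.{u} A} (h : IsZero M) (x : M) : x = 0 := by
  have := ModuleCat.subsingleton_of_isZero h
  exact Subsingleton.elim _ _

lemma tensor_eq_zero {α c r : ℤ} (hN : ∀ i, i < α → IsZero (N.X i))
    (hJ : ∀ i, i < c → IsZero (J.X i)) (hr : r < α + c) (z : (N ⊗ J : DRing.Cx A).X r) :
    z = 0 := by
  have : 𝟙 ((N ⊗ J : DRing.Cx A).X r) = 0 := by
    refine hom_ext_tmk fun p m h x g => ?_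
    by_cases hp : p < α
    · rw [eq_zero_of_isZero (hN p hp) x, map_zero, LinearMap.zero_apply, map_zero, map_zero]
    · rw [eq_zero_of_isZero (hJ m (by omega)) g, map_zero, map_zero, map_zero]
  exact congr($(this).hom z)

/-- **`theta` is an isomorphism for `F` bounded above with finite projective terms and `N`, `J` bounded
below.** -/
theorem isIso_theta_of_bounds {F : DRing.Cx A} (N J : DRing.Cx A)
    (hF : DRing.TermwiseFiniteProjective F) {b α c : ℤ}
    (hb : DRing.VanishesAbove F b) (hN : ∀ i, i < α → IsZero (N.X i))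
    (hJ : ∀ i, i < c → IsZero (J.X i)) : IsIso (theta N F J) := by
  obtain ⟨D⟩ := exists_ldb F hF
  have : ∀ n, IsIso ((theta N F J).f n) := fun n => by
    let S := Finset.Icc (α + c - n) b
    have h1 : ∀ q, q ∉ S → (∀ y : F.X q, y = 0) ∨
        ∀ z : (N ⊗ J : DRing.Cx A).X (n + q), z = 0 := by
      intro q hq
      by_cases hqb : b < q
      · exact Or.inl (eq_zero_of_isZero (hb q hqb))
      · refine Or.inr (tensor_eq_zero N J hN hJ ?_)
        rw [Finset.mem_Icc] at hq
        omega
    have h2 : ∀ p m, p + m = n → (∀ x : N.X p, x = 0) ∨ ∀ q, q ∉ S → (∀ y : F.X q, y = 0) ∨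
        ∀ z : J.X (m + q), z = 0 := by
      intro p m hpm
      by_cases hp : p < α
      · exact Or.inl (eq_zero_of_isZero (hN p hp))
      · refine Or.inr fun q hq => ?_
        by_cases hqb : b < q
        · exact Or.inl (eq_zero_of_isZero (hb q hqb))
        · refine Or.inr (eq_zero_of_isZero (hJ _ ?_))
          rw [Finset.mem_Icc] at hq
          omega
    rw [ConcreteCategory.isIso_iff_bijective]
    exact ⟨Function.LeftInverse.injective (g := thetaInv N D J n S) (thetaInv_theta N D J n S h2),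
      Function.RightInverse.surjective (g := thetaInv N D J n S) (theta_thetaInv N D J n S h1)⟩
  exact HomologicalComplex.Hom.isIso_of_components _

end K786.ThetaB
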