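import Groth.Agent.Flat2H.TorDim
import Groth.Agent.Flat2C.TorAmpRestr
import Groth.Agent.Htor.H240.FlatTens
import Groth.Agent.DTen.K786.Good
import Mathlib.CategoryTheory.Abelian.Projective.Extend

/-!
# Bounded flat resolutions of modules of finite Tor dimension

* `hasTorAmplitudeIn_inD`: `HasTorDimLE A n M → HasTorAmplitudeIn A (-n) 0 M[0]`.
* `isKFlat_of_vanishesAbove`.
-/

set_option autoImplicit false

universe u

open CategoryTheory CategoryTheory.Limits MonoidalCategory

attribute [local instance] HasDerivedCategory.standard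

namespace K786.TorRes

open Groth.Agent Groth.Agent.Flat2H Groth.Agent.Flat2H.TorDim Groth.Agent.Flat2C.TorAmpCone
  Groth.Agent.Flat2C.TorAmpRestr

variable {A : Type u} [CommRing A]

/-- Bounded above complexes of flat modules are K-flat. -/
theorem isKFlat_of_vanishesAbove (L : DRing.Cx A) (hL : DRing.TermwiseFlat L) {b : ℤ}
    (bL : DRing.VanishesAbove L b) : DRing.IsKFlat A L := by
  rw [K786.Good.isKFlat_iff]
  intro M hM
  exact Groth.Agent.Htor.H240.FlatTens.kfl L hL bL M hM

section Syz

variable {M : Type u} [AddCommGroup M] [Module A M] (P : ProjectiveResolution (ModuleCat.of A M))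

/-- The syzygies of a resolution. -/
abbrev Syz (k : ℕ) : Type u := P.complex.X k ⧸ LinearMap.range (P.complex.d (k + 1) k).hom

noncomputable def syzMap (k : ℕ) : Syz P (k + 1) →ₗ[A] P.complex.X k :=
  Submodule.liftQ _ (P.complex.d (k + 1) k).hom (by
    rw [LinearMap.range_le_ker_iff, ← ModuleCat.hom_comp, P.complex.d_comp_d]
    rfl)

lemma syzMap_injective (k : ℕ) : Function.Injective (syzMap P k) := by
  have h := resolution_exact P k
  rw [← LinearMap.ker_eq_bot, syzMap, Submodule.ker_liftQ_eq_bot]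
  intro x hx
  exact (h x).1 hx

lemma syzMap_exact (k : ℕ) :
    Function.Exact (syzMap P k) (LinearMap.range (P.complex.d (k + 1) k).hom).mkQ := by
  intro x
  rw [Submodule.mkQ_apply, Submodule.Quotient.mk_eq_zero]
  constructor
  · rintro ⟨y, rfl⟩
    exact ⟨Submodule.Quotient.mk y, rfl⟩
  · rintro ⟨y, rfl⟩
    obtain ⟨y, rfl⟩ := Submodule.Quotient.mk_surjective _ y
    exact ⟨y, rfl⟩

lemma hasTorDimLE_syz (k : ℕ) : ∀ n : ℕ, DRing.HasTorDimLE A (k + n) M →
    DRing.HasTorDimLE A n (Syz P k) := by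
  induction k with
  | zero =>
    intro n h
    have h0 := resolution_exact₀ P
    have hs : Function.Surjective (P.π.f 0).hom := by
      have : Epi (P.π.f 0) := inferInstance
      rwa [ModuleCat.epi_iff_surjective] at this
    have e : Syz P 0 ≃ₗ[A] M :=
      (Submodule.quotEquivOfEq _ _ (LinearMap.exact_iff.1 h0).symm).trans
        (LinearMap.quotKerEquivOfSurjective (P.π.f 0).hom hs)
    rw [hasTorDimLE_congr e]
    rwa [zero_add] at h
  | succ k ih =>
    intro n h
    have h1 := ih (n + 1) (by rwa [add_assoc, add_comm 1 n] at h)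
    exact (hasTorDimLE_succ_iff (syzMap P k) _ (syzMap_injective P k)
      (Submodule.mkQ_surjective _) (syzMap_exact P k) n).1 h1

end Syz

section Amp

open DerivedCategory

/-- Truncation (as in `LoccohB.ShriekTor`). -/
theorem hasTorAmplitudeIn_of_flat_cok (P : DRing.Cx A) (a b h : ℤ) (hha : h + 1 = a)
    (hP0 : ∀ i, b < i → IsZero (P.X i)) (hex : ∀ i, i < a → P.ExactAt i)
    (hPf : ∀ i, Module.Flat A (P.X i)) (hcok : Module.Flat A (Cok P h a)) :
    DRing.HasTorAmplitudeIn A a b (DRing.toD P) := by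
  have hGE : P.IsGE a := by
    rw [CochainComplex.isGE_iff]
    exact hex
  have hcok' : Module.Flat A (P.opcycles a) := by
    obtain ⟨e1⟩ := nonempty_opcycles_equiv P hha
    exact Module.Flat.of_linearEquiv e1
  refine ⟨P.truncGE a, ?_, ?_, ⟨(asIso (DerivedCategory.Q.map (P.πTruncGE a))).symm⟩⟩
  · rintro i (hi | hi)
    · exact CochainComplex.isZero_of_isStrictlyGE _ a i hi
    · rcases lt_trichotomy i a with h | h | h
      · exact CochainComplex.isZero_of_isStrictlyGE _ a i h
      · subst h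
        refine IsZero.of_iso ?_ (P.truncGEXIsoOpcycles i)
        exact IsZero.of_epi (P.pOpcycles i) (hP0 i hi)
      · exact IsZero.of_iso (hP0 i hi) (P.truncGEXIso a i h)
  · intro i
    rcases lt_trichotomy i a with h | h | h
    · have := ModuleCat.subsingleton_of_isZero
        (CochainComplex.isZero_of_isStrictlyGE (P.truncGE a) a i h)
      infer_instance
    · subst h
      exact Module.Flat.of_linearEquiv (P.truncGEXIsoOpcycles i).toLinearEquiv
    · have := hPf i
      exact Module.Flat.of_linearEquiv (P.truncGEXIso a i h).toLinearEquiv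

lemma hasTorAmplitudeIn_of_iso {a b : ℤ} {K L : Dual.D A} (e : K ≅ L)
    (h : DRing.HasTorAmplitudeIn A a b K) : DRing.HasTorAmplitudeIn A a b L := by
  obtain ⟨E, h1, h2, ⟨i⟩⟩ := h
  exact ⟨E, h1, h2, ⟨i ≪≫ e⟩⟩

/-- Modules of Tor dimension `≤ n` have Tor amplitude in `[-n, 0]`. -/
theorem hasTorAmplitudeIn_inD (n : ℕ) (M : Type u) [AddCommGroup M] [Module A M]
    (h : DRing.HasTorDimLE A n M) : DRing.HasTorAmplitudeIn A (-(n : ℤ)) 0 (Dual.inD A M) := by
  let P := projectiveResolution (ModuleCat.of A M)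
  have hs : Module.Flat A (Syz P n) :=
    hasTorDimLE_zero_iff.1 (hasTorDimLE_syz P n 0 (by rwa [add_zero]))
  refine hasTorAmplitudeIn_of_iso (asIso (DerivedCategory.Q.map P.π') ≪≫
    ((singleFunctorIsoCompQ (ModuleCat.{u} A) 0).app _).symm)
    (hasTorAmplitudeIn_of_flat_cok P.cochainComplex (-(n : ℤ)) 0 (-(n : ℤ) - 1) (by omega) ?_ ?_ ?_ ?_)
  · exact fun i hi => CochainComplex.isZero_of_isStrictlyLE _ 0 i hi
  · exact fun i hi => P.cochainComplex.exactAt_of_isGE 0 i (by omega)
  · intro i
    have h : Projective (P.cochainComplex.X i) := inferInstance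
    rw [← IsProjective.iff_projective] at h
    infer_instance
  · let e1 := P.cochainComplexXIso (-(n : ℤ)) n
    let e2 := P.cochainComplexXIso (-(n : ℤ) - 1) (n + 1) (by push_cast; omega)
    have hd := P.cochainComplex_d (-(n : ℤ) - 1) (-(n : ℤ)) (n + 1) n (by push_cast; omega) rfl
    have e : Cok P.cochainComplex (-(n : ℤ) - 1) (-(n : ℤ)) ≃ₗ[A] Syz P n := by
      refine Submodule.Quotient.equiv _ _ e1.toLinearEquiv ?_
      have hd' : P.cochainComplex.d (-(n : ℤ) - 1) (-(n : ℤ)) ≫ e1.hom =
          e2.hom ≫ P.complex.d (n + 1) n := by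
        rw [hd]
        simp [e1, e2]
      refine le_antisymm ?_ ?_
      · rintro _ ⟨_, ⟨y, rfl⟩, rfl⟩
        exact ⟨e2.hom.hom y, congr($(hd').hom y).symm⟩
      · rintro _ ⟨y, rfl⟩
        refine ⟨(P.cochainComplex.d (-(n : ℤ) - 1) (-(n : ℤ))).hom (e2.inv.hom y), ⟨_, rfl⟩, ?_⟩
        refine (congr($(hd').hom (e2.inv.hom y))).trans ?_
        exact congrArg (P.complex.d (n + 1) n).hom congr($(e2.inv_hom_id).hom y)
    exact Module.Flat.of_linearEquiv e

end Amp

end K786.TorRes
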