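import Groth.Agent.DTen.K786.BcMain
import Groth.Agent.DTen.K786.ThetaB
import Groth.Agent.DTen.K786.TorRes

/-!
# `bcRHom` is an isomorphism for `K` pseudo-coherent, `M` bounded below, `R'` of finite Tor dimension
-/

set_option autoImplicit false

universe u

open CategoryTheory CategoryTheory.Limits MonoidalCategory

attribute [local instance] HasDerivedCategory.standard

namespace K786.BcPC

open Groth.Agent.LoccohB DTen K786.Good K786.BcMain K786.ThetaB K786.TorRes

/-- **`bcRHom` is an isomorphism for `K` pseudo-coherent, `M` bounded below, `R'` of finite Tor dimension.** -/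
theorem isIso_bcRHom (R R' : Type u) [CommRing R] [CommRing R'] [Algebra R R']
    [HasLTen R] [HasLTen R'] [HasRHom R] [HasRHom R'] [HasLBase (algebraMap R R')]
    [HasResTen (algebraMap R R')] [ResLegIso (algebraMap R R')] (K M : Dual.D R)
    [IsIso (rhomBC (algebraMap R R') K ((LBase (algebraMap R R')).obj M))]
    (hR' : DRing.HasFiniteTorDim R R') (hK : DRing.IsPseudoCoherent' R K) (n : ℤ)
    (hM : DerivedCategory.IsGE M n) : IsIso (bcRHom (algebraMap R R') K M) := by
  obtain ⟨d, hd⟩ := hR'
  obtain ⟨F, hF, hF', ⟨eF⟩⟩ := hasTorAmplitudeIn_inD d R' hd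
  obtain ⟨P, b, hb, hP, ⟨eP⟩⟩ := hK
  obtain ⟨J, eJ, hJ⟩ := hM
  have hP' : DRing.TermwiseFiniteProjective P := fun i => by
    have := (hP i).1
    have := (hP i).2
    exact ⟨inferInstance, inferInstance⟩
  have : P.IsKProjective := PerfTri.isKProjective_of_vanishesAbove hb (fun i => (hP' i).2)
  have := isIso_theta_of_bounds F J hP' hb (fun i hi => hF i (Or.inl hi))
    (fun i hi => CochainComplex.isZero_of_isStrictlyGE _ n i hi)
  exact isIso_bcRHom_of_theta (algebraMap R R')
    (isKFlat_of_vanishesAbove F hF' (fun i hi => hF i (Or.inr hi)))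
    (eF ≪≫ (resUnitIsoAlg R R').symm) eP eJ.symm inferInstance

end K786.BcPC
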