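import Groth.Agent.DTen.K786.RhomBC
import Groth.Agent.DTen.K785.EvTenMain

/-!
# The base change map `bcRHom` on complexes

* `kappa φ t : ext T ⟶ Hom•(ext P, ext J)` for `t : T ⟶ Hom•(P, J)`;
* `bcRHom_Q`: `bcRHom` is computed by `kappa`;
* `quasiIso_kappa_iff`: `kappa` is a quasi-isomorphism iff `theta : F ⊗ Hom•(P, J) ⟶ Hom•(P, F ⊗ J)` is, for a
  K-flat resolution `F` of `R'`.
-/

set_option autoImplicit false

universe u

open CategoryTheory CategoryTheory.Limits MonoidalCategory CochainComplex CochainComplex.HomComplex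

attribute [local instance] HasDerivedCategory.standard

namespace K786.BcR

open Groth.Agent.LoccohB Groth.Agent.LoccohB.TenCx DTen K786.Good K786.Base K786.Mix K786.Res
  K786.RhomBC K785.EvTen K785.HomC

variable {R R' : Type u} [CommRing R] [CommRing R'] (φ : R →+* R')

/-- `ext T ⟶ Hom•(ext P, ext J)` induced by `t : T ⟶ Hom•(P, J)`. -/
noncomputable def kappa {T P J : DRing.Cx R} (t : T ⟶ DRing.homCx P J) :
    (extCx φ).obj T ⟶ DRing.homCx ((extCx φ).obj P) ((extCx φ).obj J) :=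
  curry ((extTenCxIso φ T P).inv ≫ (extCx φ).map (uncurry t))

lemma uncurry_kappa {T P J : DRing.Cx R} (t : T ⟶ DRing.homCx P J) :
    uncurry (kappa φ t) = (extTenCxIso φ T P).inv ≫ (extCx φ).map (uncurry t) :=
  LTen.uncurry_curry _

section Derived

variable [HasLTen R] [HasLTen R'] [HasRHom R] [HasRHom R'] [HasLBase φ] [HasResTen φ] [ResLegIso φ]

omit [HasRHom R] [HasRHom R'] in
lemma monMap_tm_id {T T' K : Dual.D R} (f : T ⟶ T') :
    monMap φ T K ≫ tm ((LBase φ).map f) (𝟙 ((LBase φ).obj K)) =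
      (LBase φ).map (tm f (𝟙 K)) ≫ monMap φ T' K := by
  have h := monMap_naturality φ f (𝟙 K)
  rw [CategoryTheory.Functor.map_id] at h
  exact h.symm

/-- `bcRHom` on images of complexes. -/
lemma bcRHom_Q {T P J : DRing.Cx R} (t : T ⟶ DRing.homCx P J)
    [IsIso (rhomBC φ (DerivedCategory.Q.obj P) ((LBase φ).obj (DerivedCategory.Q.obj J)))] :
    (LBase φ).map (DerivedCategory.Q.map t ≫ hc P J) ≫
        bcRHom φ (DerivedCategory.Q.obj P) (DerivedCategory.Q.obj J) ≫
        (RHomR R' ((LBase φ).obj (DerivedCategory.Q.obj P))).map ((baseCmp φ).app J) =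
      (baseCmp φ).app T ≫ DerivedCategory.Q.map (kappa φ t) ≫
        hc ((extCx φ).obj P) ((extCx φ).obj J) ≫
        RHomMap ((baseCmp φ).app P) (DerivedCategory.Q.obj ((extCx φ).obj J)) := by
  apply ad_injective
  rw [← cancel_epi (monMap φ (DerivedCategory.Q.obj T) (DerivedCategory.Q.obj P))]
  have h1 := monMap_bcRHom φ (DerivedCategory.Q.obj P) (DerivedCategory.Q.obj J)
  have e1 : ad (DerivedCategory.Q.map (kappa φ t) ≫
      hc ((extCx φ).obj P) ((extCx φ).obj J)) =
      (ε R').app ((extCx φ).obj T, (extCx φ).obj P) ≫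
        DerivedCategory.Q.map (uncurry (kappa φ t)) := symm_comp_hc _ _ _ _
  have e2 : ad (DerivedCategory.Q.map t ≫ hc P J) = (ε R).app (T, P) ≫
      DerivedCategory.Q.map (uncurry t) := symm_comp_hc _ _ _ _
  have e3 := monMap_Q φ T P
  have e4 := baseCmp_naturality φ (uncurry t)
  have h1' : monMap φ ((RHomR R (DerivedCategory.Q.obj P)).obj (DerivedCategory.Q.obj J))
      (DerivedCategory.Q.obj P) ≫ ad (bcRHom φ (DerivedCategory.Q.obj P)
        (DerivedCategory.Q.obj J)) = (LBase φ).map (ev _ _) := by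
    rw [ad_eq]
    exact h1
  rw [ad_comp, ad_comp_map]
  have l1 := (reassoc_of% (monMap_tm_id φ (K := DerivedCategory.Q.obj P)
    (DerivedCategory.Q.map t ≫ hc P J))) (ad (bcRHom φ (DerivedCategory.Q.obj P)
      (DerivedCategory.Q.obj J)) ≫ (baseCmp φ).app J)
  refine l1.trans ?_
  rw [reassoc_of% h1', ← Functor.map_comp_assoc, ← ad_eq, e2, Functor.map_comp, Category.assoc]
  refine (congrArg (fun t => (LBase φ).map ((ε R).app (T, P)) ≫ t) e4).trans ?_
  have r1 : ad ((baseCmp φ).app T ≫ DerivedCategory.Q.map (kappa φ t) ≫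
        hc ((extCx φ).obj P) ((extCx φ).obj J) ≫
        RHomMap ((baseCmp φ).app P) (DerivedCategory.Q.obj ((extCx φ).obj J))) =
      tm ((baseCmp φ).app T) ((baseCmp φ).app P) ≫
        (ε R').app ((extCx φ).obj T, (extCx φ).obj P) ≫
        DerivedCategory.Q.map (uncurry (kappa φ t)) := by
    rw [ad_comp, ← Category.assoc (DerivedCategory.Q.map (kappa φ t)), ad_comp_RHomMap]
    refine (congrArg (fun s => tm ((baseCmp φ).app T) (𝟙 _) ≫
      tm (𝟙 _) ((baseCmp φ).app P) ≫ s) e1).trans ?_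
    rw [← Category.assoc, tm_comp, Category.comp_id, Category.id_comp]
  refine Eq.trans ?_ (congrArg (fun t => monMap φ (DerivedCategory.Q.obj T)
    (DerivedCategory.Q.obj P) ≫ t) r1.symm)
  have e3' := (reassoc_of% e3) (DerivedCategory.Q.map (uncurry (kappa φ t)))
  refine Eq.trans ?_ e3'.symm
  rw [uncurry_kappa, ← Functor.map_comp, Iso.hom_inv_id_assoc]

end Derived

section Lproj

/-- `res E ⊗ K ⟶ res (E ⊗ ext K)`, `e ⊗ k ↦ e ⊗ (1 ⊗ k)` -/
noncomputable def lproj (E : DRing.Cx R') (K : DRing.Cx R) :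
    ((resCx φ).obj E ⊗ K : DRing.Cx R) ⟶ (resCx φ).obj (E ⊗ (extCx φ).obj K : DRing.Cx R') :=
  ((resCx φ).obj E ◁ (unitCx φ).app K) ≫ resTenCx φ E ((extCx φ).obj K)

lemma lproj_tmk (E : DRing.Cx R') (K : DRing.Cx R) (p q n : ℤ) (h : p + q = n) (x : E.X p)
    (y : K.X q) : ((lproj φ E K).f n).hom (tmk ((resCx φ).obj E) K p q n h x y) =
      tmk E ((extCx φ).obj K) p q n h x (ProjF.η φ K q y) := by
  refine (congrArg ((resTenCx φ E ((extCx φ).obj K)).f n).hom
    (whiskerLeft_tmk ((resCx φ).obj E) ((unitCx φ).app K) p q n h x y)).trans ?_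
  exact resTenCx_tmk φ E ((extCx φ).obj K) p q n h x (ProjF.η φ K q y)

lemma lproj_eq (E : DRing.Cx R') (K : DRing.Cx R) :
    lproj φ E K = LTen.swap ((resCx φ).obj E) K ≫ ProjF.projMap φ K E ≫
      (resCx φ).map (LTen.swap ((extCx φ).obj K) E) := by
  refine cx_hom_ext fun p q n h x y => ?_
  refine (lproj_tmk φ E K p q n h x y).trans ?_
  refine Eq.trans ?_ (congrArg ((ProjF.projMap φ K E ≫
      (resCx φ).map (LTen.swap ((extCx φ).obj K) E)).f n).hom
    (LTen.swap_tmk ((resCx φ).obj E) K p q n h x y)).symm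
  rw [Units.smul_def, map_zsmul]
  have e1 : ((ProjF.projMap φ K E ≫
      (resCx φ).map (LTen.swap ((extCx φ).obj K) E)).f n).hom
        (tmk K ((resCx φ).obj E) q p n (by omega) y x) =
      (q * p).negOnePow • tmk E ((extCx φ).obj K) p q n h x (ProjF.η φ K q y) := by
    refine (congrArg (((resCx φ).map (LTen.swap ((extCx φ).obj K) E)).f n).hom
      (ProjF.projMap_tmk φ K E q p n (by omega) y x)).trans ?_
    exact LTen.swap_tmk ((extCx φ).obj K) E q p n (by omega) (ProjF.η φ K q y) x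
  rw [e1]
  refine Eq.trans ?_ (smul_smul ((p * q).negOnePow) ((q * p).negOnePow)
    (tmk E ((extCx φ).obj K) p q n h x (ProjF.η φ K q y))).symm
  rw [mul_comm q p, Int.units_mul_self, one_smul]

instance isIso_lproj (E : DRing.Cx R') (K : DRing.Cx R) : IsIso (lproj φ E K) := by
  rw [lproj_eq]
  have h1 : IsIso (LTen.swap ((resCx φ).obj E) K) := (LTen.swapIso _ _).isIso_hom
  have h2 : IsIso (LTen.swap ((extCx φ).obj K) E) := (LTen.swapIso _ _).isIso_hom
  infer_instance

lemma extTenCxIso_inv_η (P P' : DRing.Cx R) (p q n : ℤ) (h : p + q = n) (x : P.X p)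
    (y : P'.X q) : ((extTenCxIso φ P P').inv.f n).hom
      (tmk ((extCx φ).obj P) ((extCx φ).obj P') p q n h (ProjF.η φ P p x) (ProjF.η φ P' q y)) =
      ProjF.η φ (P ⊗ P' : DRing.Cx R) n (tmk P P' p q n h x y) := by
  refine (congrArg ((extTenCxIso φ P P').inv.f n).hom (extTenCxIso_η φ P P' p q n h x y).symm).trans ?_
  have h1 : (extTenCxIso φ P P').hom.f n ≫ (extTenCxIso φ P P').inv.f n = 𝟙 _ := by
    rw [← HomologicalComplex.comp_f, Iso.hom_inv_id, HomologicalComplex.id_f]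
  exact congr($(h1).hom (ProjF.η φ (P ⊗ P' : DRing.Cx R) n (tmk P P' p q n h x y)))

lemma kappa_η {T P J : DRing.Cx R} (t : T ⟶ DRing.homCx P J) (p q n : ℤ) (h : p + q = n)
    (x : T.X p) (y : P.X q) :
    TenCx.ev ((extCx φ).obj P) ((extCx φ).obj J) p q n h (((kappa φ t).f p).hom (ProjF.η φ T p x))
      (ProjF.η φ P q y) = ProjF.η φ J n (TenCx.ev P J p q n h ((t.f p).hom x) y) := by
  refine (ev_curry _ p q n h (ProjF.η φ T p x) (ProjF.η φ P q y)).trans ?_
  refine (congrArg (((extCx φ).map (uncurry t)).f n).hom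
    (extTenCxIso_inv_η φ T P p q n h x y)).trans ?_
  refine (ProjF.η_map φ (uncurry t) n _).trans ?_
  exact congrArg (ProjF.η φ J n) (uncurry_tmk t p q n h x y)

/-- The main diagram. -/
lemma theta_lproj (E : DRing.Cx R') {T P J : DRing.Cx R} (t : T ⟶ DRing.homCx P J) :
    ((resCx φ).obj E ◁ t) ≫ ThetaHom.theta ((resCx φ).obj E) P J ≫
        DRing.homCxMap P (lproj φ E J) =
      lproj φ E T ≫ (resCx φ).map ((E ◁ kappa φ t) ≫
        ThetaHom.theta E ((extCx φ).obj P) ((extCx φ).obj J)) ≫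
        LTenBC.kapECx φ P (E ⊗ (extCx φ).obj J : DRing.Cx R') := by
  refine cx_hom_ext fun p m n h e τ => ?_
  refine ext_ev fun q r hqr x => ?_
  have l1 : ((((resCx φ).obj E ◁ t) ≫ ThetaHom.theta ((resCx φ).obj E) P J ≫
        DRing.homCxMap P (lproj φ E J)).f n).hom (tmk ((resCx φ).obj E) T p m n h e τ) =
      ((DRing.homCxMap P (lproj φ E J)).f n).hom
        (ThetaHom.thetaBil ((resCx φ).obj E) P J p m n h e ((t.f m).hom τ)) := by
    refine (congrArg ((ThetaHom.theta ((resCx φ).obj E) P J ≫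
        DRing.homCxMap P (lproj φ E J)).f n).hom
      (whiskerLeft_tmk ((resCx φ).obj E) t p m n h e τ)).trans ?_
    exact congrArg ((DRing.homCxMap P (lproj φ E J)).f n).hom
      (ThetaHom.theta_tmk ((resCx φ).obj E) P J p m n h e ((t.f m).hom τ))
  have l2 : TenCx.ev P ((resCx φ).obj (E ⊗ (extCx φ).obj J : DRing.Cx R')) n q r hqr
      (((DRing.homCxMap P (lproj φ E J)).f n).hom
        (ThetaHom.thetaBil ((resCx φ).obj E) P J p m n h e ((t.f m).hom τ))) x =
      tmk E ((extCx φ).obj J) p (m + q) r (by omega) e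
        (ProjF.η φ J (m + q) (TenCx.ev P J m q (m + q) rfl ((t.f m).hom τ) x)) := by
    refine (ev_homCxMap P (lproj φ E J) n q r hqr _ x).trans ?_
    refine (congrArg ((lproj φ E J).f r).hom
      (ThetaHom.evC_thetaBil ((resCx φ).obj E) P J p m n h e ((t.f m).hom τ) q r (m + q) hqr rfl
        x)).trans ?_
    exact lproj_tmk φ E J p (m + q) r (by omega) e _
  refine (congrArg (fun s => TenCx.ev P _ n q r hqr s x) l1).trans (l2.trans ?_)
  have r1 : ((lproj φ E T ≫ (resCx φ).map ((E ◁ kappa φ t) ≫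
        ThetaHom.theta E ((extCx φ).obj P) ((extCx φ).obj J)) ≫
        LTenBC.kapECx φ P (E ⊗ (extCx φ).obj J : DRing.Cx R')).f n).hom
        (tmk ((resCx φ).obj E) T p m n h e τ) =
      ((LTenBC.kapECx φ P (E ⊗ (extCx φ).obj J : DRing.Cx R')).f n).hom
        (ThetaHom.thetaBil E ((extCx φ).obj P) ((extCx φ).obj J) p m n h e
          (((kappa φ t).f m).hom (ProjF.η φ T m τ))) := by
    refine (congrArg (((resCx φ).map ((E ◁ kappa φ t) ≫
        ThetaHom.theta E ((extCx φ).obj P) ((extCx φ).obj J)) ≫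
        LTenBC.kapECx φ P (E ⊗ (extCx φ).obj J : DRing.Cx R')).f n).hom
      (lproj_tmk φ E T p m n h e τ)).trans ?_
    refine congrArg ((LTenBC.kapECx φ P (E ⊗ (extCx φ).obj J : DRing.Cx R')).f n).hom ?_
    refine (congrArg ((ThetaHom.theta E ((extCx φ).obj P) ((extCx φ).obj J)).f n).hom
      (whiskerLeft_tmk E (kappa φ t) p m n h e (ProjF.η φ T m τ))).trans ?_
    exact ThetaHom.theta_tmk E ((extCx φ).obj P) ((extCx φ).obj J) p m n h e _
  refine Eq.trans ?_ (congrArg (fun s => TenCx.ev P _ n q r hqr s x) r1).symm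
  refine Eq.trans ?_ (ThetaHom.evC_thetaBil E ((extCx φ).obj P) ((extCx φ).obj J) p m n h e
    (((kappa φ t).f m).hom (ProjF.η φ T m τ)) q r (m + q) hqr rfl (ProjF.η φ P q x)).symm
  exact congrArg (tmk E ((extCx φ).obj J) p (m + q) r (by omega) e)
    (kappa_η φ t m q (m + q) rfl τ x).symm

end Lproj

section Unit

variable {A : Type u} [CommRing A]

lemma uncurry_comp_homCxMap {X K L L' : DRing.Cx A} (ψ : X ⟶ DRing.homCx K L) (g : L ⟶ L') :
    uncurry (ψ ≫ DRing.homCxMap K g) = uncurry ψ ≫ g := by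
  rw [← whiskerRight_evx, comp_whiskerRight, Category.assoc, evx_post, ← Category.assoc,
    whiskerRight_evx]

lemma uncurry_comp {X X' K L : DRing.Cx A} (f : X' ⟶ X) (ψ : X ⟶ DRing.homCx K L) :
    uncurry (f ≫ ψ) = (f ▷ K) ≫ uncurry ψ := by
  rw [← whiskerRight_evx, ← whiskerRight_evx, comp_whiskerRight, Category.assoc]

lemma uncurry_injective {X K L : DRing.Cx A} {ψ ψ' : X ⟶ DRing.homCx K L}
    (h : uncurry ψ = uncurry ψ') : ψ = ψ' := by
  rw [← LTen.curry_uncurry ψ, h, LTen.curry_uncurry]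

/-- `theta` for the unit complex. -/
lemma theta_unit (F J : DRing.Cx A) :
    ThetaHom.theta (𝟙_ (DRing.Cx A)) F J ≫ DRing.homCxMap F (λ_ J).hom =
      (λ_ (DRing.homCx F J)).hom := by
  apply uncurry_injective
  rw [uncurry_comp_homCxMap, uncurry_theta, Category.assoc, leftUnitor_naturality,
    ← whiskerRight_evx, leftUnitor_tensor_hom_assoc, Iso.hom_inv_id_assoc]

end Unit

end K786.BcR
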