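import Groth.Agent.DTen.K786.BcR

/-!
# `bcRHom` is an isomorphism iff `theta` is

* `quasiIso_kappa_iff`;
* `isIso_bcRHom_Q_iff`;
* `isIso_bcRHom_of_iso`: invariance under isomorphisms.
-/

set_option autoImplicit false

universe u

open CategoryTheory CategoryTheory.Limits MonoidalCategory CochainComplex CochainComplex.HomComplex

attribute [local instance] HasDerivedCategory.standard

namespace K786.BcR2

open Groth.Agent.LoccohB Groth.Agent.LoccohB.TenCx DTen K786.Good K786.Base K786.Mix K786.Res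
  K786.RhomBC K785.EvTen K785.HomC K786.BcR

section

variable {A : Type u} [CommRing A]

lemma theta_left {N N' : DRing.Cx A} (f : N ⟶ N') (F J : DRing.Cx A) :
    (f ▷ DRing.homCx F J) ≫ ThetaHom.theta N' F J =
      ThetaHom.theta N F J ≫ DRing.homCxMap F (f ▷ J) := by
  apply uncurry_injective
  rw [uncurry_comp_homCxMap, uncurry_theta, uncurry_comp, uncurry_theta, Category.assoc,
    associator_naturality_left_assoc, ← whisker_exchange]

lemma quasiIso_comp_iff_right {K L M : DRing.Cx A} (f : K ⟶ L) (g : L ⟶ M) [QuasiIso f] :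
    QuasiIso (f ≫ g) ↔ QuasiIso g := quasiIso_iff_comp_left f g

lemma quasiIso_comp_iff_left {K L M : DRing.Cx A} (f : K ⟶ L) (g : L ⟶ M) [QuasiIso g] :
    QuasiIso (f ≫ g) ↔ QuasiIso f := quasiIso_iff_comp_right f g

/-- Replacing the middle complex. -/
lemma quasiIso_theta_post_iff {N F J J' : DRing.Cx A} (f : J ⟶ J') [QuasiIso f]
    [F.IsKProjective] (hN : DRing.IsKFlat A N) :
    QuasiIso (ThetaHom.theta N F J) ↔ QuasiIso (ThetaHom.theta N F J') := by
  have h := ThetaHom.theta_post N F f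
  have h1 : QuasiIso (N ◁ f) := quasiIso_whiskerLeft_of_isKFlat hN f
  have h2 : QuasiIso (DRing.homCxMap F (N ◁ f)) := ThetaHom.quasiIso_homCxMap F _
  have h3 : QuasiIso (DRing.homCxMap F f) := ThetaHom.quasiIso_homCxMap F _
  have h4 : QuasiIso (N ◁ DRing.homCxMap F f) := quasiIso_whiskerLeft_of_isKFlat hN _
  rw [← quasiIso_comp_iff_left (ThetaHom.theta N F J) (DRing.homCxMap F (N ◁ f)), h,
    quasiIso_comp_iff_right]

end

section

variable {R R' : Type u} [CommRing R] [CommRing R'] (φ : R →+* R')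

lemma quasiIso_resCx_iff {K L : DRing.Cx R'} (f : K ⟶ L) :
    QuasiIso ((resCx φ).map f) ↔ QuasiIso f :=
  HomologicalComplex.quasiIso_map_iff_of_preservesHomology f (ModuleCat.restrictScalars.{u} φ)

/-- **`kappa` is a quasi-isomorphism iff `theta` is.** -/
theorem quasiIso_kappa_iff {T P J F : DRing.Cx R} (t : T ⟶ DRing.homCx P J) [QuasiIso t]
    [P.IsKProjective] (hT : DRing.IsKFlat R T) (hJ : DRing.IsKFlat R J)
    (hF : DRing.IsKFlat R F) (f : F ⟶ (resCx φ).obj (𝟙_ (DRing.Cx R'))) [QuasiIso f] :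
    QuasiIso (kappa φ t) ↔ QuasiIso (ThetaHom.theta F P J) := by
  have q1 : QuasiIso (f ▷ T) := quasiIso_whiskerRight_of_isKFlat hT f
  have q2 : QuasiIso (f ▷ J) := quasiIso_whiskerRight_of_isKFlat hJ f
  have q3 : QuasiIso (DRing.homCxMap P (f ▷ J)) := ThetaHom.quasiIso_homCxMap P _
  have q4 : QuasiIso (F ◁ t) := quasiIso_whiskerLeft_of_isKFlat hF t
  have e1 : (F ◁ t) ≫ ThetaHom.theta F P J ≫ DRing.homCxMap P (f ▷ J) =
      (f ▷ T) ≫ ((resCx φ).obj (𝟙_ (DRing.Cx R')) ◁ t) ≫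
        ThetaHom.theta ((resCx φ).obj (𝟙_ (DRing.Cx R'))) P J := by
    rw [← theta_left, ← whisker_exchange_assoc]
  have e2 := theta_lproj φ (𝟙_ (DRing.Cx R')) t
  have e3 : ((𝟙_ (DRing.Cx R') ◁ kappa φ t) ≫
      ThetaHom.theta (𝟙_ (DRing.Cx R')) ((extCx φ).obj P) ((extCx φ).obj J)) ≫
        DRing.homCxMap ((extCx φ).obj P) (λ_ ((extCx φ).obj J)).hom =
      (λ_ _).hom ≫ kappa φ t := by
    rw [Category.assoc, theta_unit, leftUnitor_naturality]
  have q5 : QuasiIso (DRing.homCxMap ((extCx φ).obj P) (λ_ ((extCx φ).obj J)).hom) := by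
    have : IsIso (DRing.homCxMap ((extCx φ).obj P) (λ_ ((extCx φ).obj J)).hom) := by
      change IsIso ((DRing.homCxFunctor ((extCx φ).obj P)).map (λ_ ((extCx φ).obj J)).hom)
      infer_instance
    infer_instance
  have q6 : QuasiIso (DRing.homCxMap P (lproj φ (𝟙_ (DRing.Cx R')) J)) :=
    ThetaHom.quasiIso_homCxMap P _
  rw [← quasiIso_comp_iff_right (λ_ ((extCx φ).obj T)).hom (kappa φ t), ← e3,
    quasiIso_comp_iff_left, ← quasiIso_resCx_iff φ,
    ← quasiIso_comp_iff_left _ (LTenBC.kapECx φ P (𝟙_ (DRing.Cx R') ⊗ (extCx φ).obj J :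
      DRing.Cx R')), ← quasiIso_comp_iff_right (lproj φ (𝟙_ (DRing.Cx R')) T), ← e2,
    ← Category.assoc, quasiIso_comp_iff_left, ← quasiIso_comp_iff_right (f ▷ T), ← e1,
    quasiIso_comp_iff_right, quasiIso_comp_iff_left]

end

section Derived

variable {R R' : Type u} [CommRing R] [CommRing R'] (φ : R →+* R')
  [HasLTen R] [HasLTen R'] [HasRHom R] [HasRHom R'] [HasLBase φ] [HasResTen φ] [ResLegIso φ]

omit [HasRHom R] [HasRHom R'] in
lemma monMap_tm_right {T K K' : Dual.D R} (g : K ⟶ K') :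
    monMap φ T K ≫ tm (𝟙 ((LBase φ).obj T)) ((LBase φ).map g) =
      (LBase φ).map (tm (𝟙 T) g) ≫ monMap φ T K' := by
  have h := monMap_naturality φ (𝟙 T) g
  rw [CategoryTheory.Functor.map_id] at h
  exact h.symm

lemma monMap_ad_bcRHom (K M : Dual.D R) [IsIso (rhomBC φ K ((LBase φ).obj M))] :
    monMap φ ((RHomR R K).obj M) K ≫ ad (bcRHom φ K M) = (LBase φ).map (ev _ _) := by
  rw [ad_eq]
  exact monMap_bcRHom φ K M

/-- Naturality of `bcRHom`. -/
lemma bcRHom_naturality {K K' M M' : Dual.D R} (a : K' ⟶ K) (m : M ⟶ M')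
    [IsIso (rhomBC φ K ((LBase φ).obj M))] [IsIso (rhomBC φ K' ((LBase φ).obj M'))] :
    (LBase φ).map (RHomMap a M ≫ (RHomR R K').map m) ≫ bcRHom φ K' M' =
      (bcRHom φ K M ≫ RHomMap ((LBase φ).map a) _) ≫
        (RHomR R' ((LBase φ).obj K')).map ((LBase φ).map m) := by
  apply ad_injective
  rw [← cancel_epi (monMap φ ((RHomR R K).obj M) K')]
  rw [ad_comp, ad_comp_map, ad_comp_RHomMap]
  have l1 := (reassoc_of% (monMap_tm_id φ (K := K') (RHomMap a M ≫ (RHomR R K').map m)))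
    (ad (bcRHom φ K' M'))
  refine l1.trans ?_
  rw [monMap_ad_bcRHom, ← Functor.map_comp, ← ad_eq, ad_comp_map]
  have e1 : ad (RHomMap a M) = tm (𝟙 _) a ≫ ev K M := by
    rw [ad_eq]
    exact tm_RHomMap_ev a
  rw [e1]
  refine Eq.trans ?_ (congrArg (fun s => monMap φ _ _ ≫ s) (Category.assoc _ _ _)).symm
  refine Eq.trans ?_ ((reassoc_of% (monMap_tm_right φ (T := (RHomR R K).obj M) a))
    (ad (bcRHom φ K M) ≫ (LBase φ).map m)).symm
  rw [← Category.assoc (monMap φ _ _), monMap_ad_bcRHom, ← Functor.map_comp, ← Functor.map_comp,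
    Category.assoc]

/-- Invariance of "`bcRHom` is an isomorphism" under isomorphisms. -/
lemma isIso_bcRHom_of_iso {K K' M M' : Dual.D R} (e : K ≅ K') (f : M ≅ M')
    [IsIso (rhomBC φ K ((LBase φ).obj M))] [IsIso (rhomBC φ K' ((LBase φ).obj M'))]
    (h : IsIso (bcRHom φ K M)) : IsIso (bcRHom φ K' M') := by
  have h1 := bcRHom_naturality φ e.inv f.hom
  have h4 : IsIso (RHomMap e.inv M) := by
    change IsIso (((RHom R).map e.inv.op).app M)
    infer_instance
  have h5 : IsIso (RHomMap ((LBase φ).map e.inv) ((LBase φ).obj M)) := by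
    change IsIso (((RHom R').map ((LBase φ).map e.inv).op).app _)
    infer_instance
  rw [← IsIso.eq_inv_comp] at h1
  rw [h1]
  infer_instance

/-- `bcRHom` on images of complexes. -/
theorem isIso_bcRHom_Q {P J F : DRing.Cx R} [P.IsKProjective] (hJ : DRing.IsKFlat R J)
    (hF : DRing.IsKFlat R F) (f : F ⟶ (resCx φ).obj (𝟙_ (DRing.Cx R'))) [QuasiIso f]
    [IsIso (rhomBC φ (DerivedCategory.Q.obj P) ((LBase φ).obj (DerivedCategory.Q.obj J)))]
    (h : QuasiIso (ThetaHom.theta F P J)) :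
    IsIso (bcRHom φ (DerivedCategory.Q.obj P) (DerivedCategory.Q.obj J)) := by
  obtain ⟨T, hT, t, ht⟩ : ∃ (T : DRing.Cx R) (_ : T.IsKProjective)
      (t : T ⟶ DRing.homCx P J), QuasiIso t := by
    obtain ⟨T, t, h1, h2, -, -⟩ := KProj.exists_kprojective (DRing.homCx P J)
    exact ⟨T, h1, t, h2⟩
  have e := bcRHom_Q φ t
  have h1 : IsIso ((baseCmp φ).app T) := isIso_baseCmp φ T
  have h2 : IsIso ((baseCmp φ).app P) := isIso_baseCmp φ P
  have h3 : IsIso ((baseCmp φ).app J) := isIso_baseCmp_of_isKFlat φ J hJ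
  have h4 : QuasiIso (kappa φ t) :=
    (quasiIso_kappa_iff φ t (isKFlat_of_isKProjective T) hJ hF f).2 h
  have h5 : ((extCx φ).obj P).IsKProjective := inferInstance
  have h6 : IsIso (hc P J) := inferInstance
  have h7 : IsIso (hc ((extCx φ).obj P) ((extCx φ).obj J)) := inferInstance
  have h8 : IsIso (RHomMap ((baseCmp φ).app P) (DerivedCategory.Q.obj ((extCx φ).obj J))) := by
    change IsIso (((RHom R').map ((baseCmp φ).app P).op).app _)
    infer_instance
  rw [← IsIso.eq_inv_comp, ← IsIso.eq_comp_inv] at e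
  rw [e]
  infer_instance

end Derived

end K786.BcR2
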