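import Mathlib.RingTheory.PicardGroup
import Mathlib.Algebra.Homology.ShortComplex.ModuleCat
import Mathlib.Algebra.Homology.ShortComplex.ConcreteCategory
import Mathlib.Algebra.Category.ModuleCat.Projective
import Groth.Prelude.Def_DRing2

/-!
# `Ext^i_R(R/I, R)` for `I` invertible

`J` an injective resolution of `R`, `C ⊆ J` the subcomplex killed by `I`: `H^i(C) = 0` for `i ≠ 1`, and
`H^1(C) ≅ Hom_R(I, R/I)`.
-/

set_option autoImplicit false

universe u

open CategoryTheory CategoryTheory.Limits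

namespace K786.InvKer

variable {R : Type u} [CommRing R] (I : Ideal R)

/-- `J` is an injective resolution of `R` and `C ⊆ J` is the subcomplex killed by `I`. -/
structure Dat (J C : DRing.Cx R) where
  κ : C ⟶ J
  inj : ∀ n, Function.Injective (κ.f n).hom
  range : ∀ n (j : J.X n), (∃ c, (κ.f n).hom c = j) ↔ ∀ x ∈ I, x • j = 0
  ι : R →ₗ[R] J.X 0
  ι_inj : Function.Injective ι
  ι_range : ∀ j : J.X 0, (J.d 0 1).hom j = 0 ↔ ∃ r, ι r = j
  neg : ∀ n, n < 0 → IsZero (J.X n)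
  ex : ∀ m n k, m + 1 = n → n + 1 = k → 0 < n → ∀ j : J.X n, (J.d n k).hom j = 0 →
    ∃ i : J.X m, (J.d m n).hom i = j
  injective : ∀ n, Injective (J.X n)

variable {I} {J C : DRing.Cx R} (D : Dat I J C)

namespace Dat

lemma d_κ (m n : ℤ) (c : C.X m) :
    (J.d m n).hom ((D.κ.f m).hom c) = (D.κ.f n).hom ((C.d m n).hom c) :=
  congr($(D.κ.comm m n).hom c)

include D in
/-- extension of maps `I → J^n` -/
lemma exists_extension (n : ℤ) (u : I →ₗ[R] J.X n) : ∃ m : J.X n, ∀ x : I, (x : R) • m = u x := by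
  have := D.injective n
  let i : ModuleCat.of R I ⟶ ModuleCat.of R R := ModuleCat.ofHom I.subtype
  have hi : Mono i := (ModuleCat.mono_iff_injective _).2 I.injective_subtype
  let g := Injective.factorThru (ModuleCat.ofHom u) i
  have hg : i ≫ g = ModuleCat.ofHom u := Injective.comp_factorThru _ _
  refine ⟨g.hom (1 : R), fun x => ?_⟩
  rw [← map_smul, smul_eq_mul, mul_one]
  exact congr($(hg).hom x)

lemma smul_d {m n : ℤ} (r : R) (j : J.X m) :
    (J.d m n).hom (r • j) = r • (J.d m n).hom j := map_smul _ _ _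

/-- faithfulness of an invertible ideal. -/
lemma eq_zero_of_mul [Module.Invertible R I] (r : R) (h : ∀ x ∈ I, x * r = 0) : r = 0 := by
  have : FaithfulSMul R I := inferInstance
  apply this.eq_of_smul_eq_smul (α := I)
  intro x
  rw [zero_smul]
  exact Subtype.ext (by
    change r * (x : R) = 0
    rw [mul_comm]
    exact h x x.2)

include D in
theorem exactAt [Module.Invertible R I] (m n k : ℤ) (hmn : m + 1 = n) (hnk : n + 1 = k)
    (hn : n ≠ 1) : ∀ c : C.X n, (C.d n k).hom c = 0 → ∃ b : C.X m, (C.d m n).hom b = c := by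
  intro c hc
  have hj : (J.d n k).hom ((D.κ.f n).hom c) = 0 := by rw [D.d_κ, hc, map_zero]
  have hI : ∀ x ∈ I, x • (D.κ.f n).hom c = 0 := (D.range n _).1 ⟨c, rfl⟩
  rcases lt_trichotomy n 0 with h | h | h
  · have := ModuleCat.subsingleton_of_isZero (D.neg n h)
    refine ⟨0, ?_⟩
    rw [map_zero]
    exact D.inj n (Subsingleton.elim _ _)
  · subst h
    obtain rfl : k = 1 := by omega
    obtain ⟨r, hr⟩ := (D.ι_range _).1 hj
    have hr0 : r = 0 := eq_zero_of_mul (I := I) r fun x hx => by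
      apply D.ι_inj
      rw [← smul_eq_mul, map_smul, hr, hI x hx, map_zero]
    refine ⟨0, ?_⟩
    rw [map_zero]
    apply D.inj
    rw [← hr, hr0, map_zero, map_zero]
  · obtain ⟨j, hj'⟩ := D.ex m n k hmn hnk h _ hj
    have hm : 0 < m := by omega
    have key : ∀ x : I, (J.d m n).hom ((x : R) • j) = 0 := fun x => by
      rw [smul_d, hj', hI x x.2]
    let d' : J.X (m - 1) →ₗ[R] LinearMap.ker (J.d m n).hom :=
      (J.d (m - 1) m).hom.codRestrict _ fun y => congr($(J.d_comp_d (m - 1) m n).hom y)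
    let u : I →ₗ[R] LinearMap.ker (J.d m n).hom :=
      ((LinearMap.toSpanSingleton R (J.X m) j).comp I.subtype).codRestrict _ key
    have hs : Function.Surjective d' := fun y => by
      obtain ⟨z, hz⟩ := D.ex (m - 1) m n (by omega) hmn hm y.1 y.2
      exact ⟨z, Subtype.ext hz⟩
    obtain ⟨v, hv⟩ := Module.projective_lifting_property d' u hs
    obtain ⟨w, hw⟩ := D.exists_extension (m - 1) v
    have hk : ∀ x ∈ I, x • (j - (J.d (m - 1) m).hom w) = 0 := fun x hx => by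
      rw [smul_sub, sub_eq_zero, ← smul_d, hw ⟨x, hx⟩]
      exact (congrArg Subtype.val congr($hv ⟨x, hx⟩)).symm
    obtain ⟨b, hb⟩ := (D.range m _).2 hk
    refine ⟨b, D.inj n ?_⟩
    rw [← D.d_κ, hb, map_sub, hj', sub_eq_self]
    exact congr($(J.d_comp_d (m - 1) m n).hom w)

section H1

/-- The elements `j` of `J^0` with `I dj = 0`. -/
def P : Submodule R (J.X 0) where
  carrier := {j | ∀ x ∈ I, x • (J.d 0 1).hom j = 0}
  zero_mem' := fun x _ => by rw [map_zero, smul_zero]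
  add_mem' := fun {a b} ha hb x hx => by rw [map_add, smul_add, ha x hx, hb x hx, add_zero]
  smul_mem' := fun r a ha x hx => by rw [map_smul, smul_comm, ha x hx, smul_zero]

variable (I J) in
/-- the elements of `J^1` killed by `I` -/
def K1 : Submodule R (J.X 1) where
  carrier := {j | ∀ x ∈ I, x • j = 0}
  zero_mem' := fun x _ => by rw [smul_zero]
  add_mem' := fun {a b} ha hb x hx => by rw [smul_add, ha x hx, hb x hx, add_zero]
  smul_mem' := fun r a ha x hx => by rw [smul_comm, ha x hx, smul_zero]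

/-- `C^1 ≅ J^1[I]` -/
noncomputable def e1 : C.X 1 ≃ₗ[R] K1 I J :=
  LinearEquiv.ofBijective ((D.κ.f 1).hom.codRestrict (K1 I J) fun c => (D.range 1 _).1 ⟨c, rfl⟩)
    ⟨fun a b h => D.inj 1 (congrArg Subtype.val h), fun y => by
      obtain ⟨c, hc⟩ := (D.range 1 y.1).2 y.2
      exact ⟨c, Subtype.ext hc⟩⟩

lemma κ_e1_symm (y : K1 I J) : (D.κ.f 1).hom (D.e1.symm y) = y.1 :=
  congrArg Subtype.val (D.e1.apply_symm_apply y)

/-- `R ≅ ker d^0` -/
noncomputable def eι : R ≃ₗ[R] LinearMap.ker (J.d 0 1).hom :=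
  LinearEquiv.ofBijective (D.ι.codRestrict _ fun r => (D.ι_range _).2 ⟨r, rfl⟩)
    ⟨fun a b h => D.ι_inj (congrArg Subtype.val h), fun y => by
      obtain ⟨c, hc⟩ := (D.ι_range y.1).1 y.2
      exact ⟨c, Subtype.ext hc⟩⟩

lemma ι_eι_symm (y : LinearMap.ker (J.d 0 1).hom) : D.ι (D.eι.symm y) = y.1 :=
  congrArg Subtype.val (D.eι.apply_symm_apply y)

/-- `j ↦ dj` -/
noncomputable def Ψ₀ : P (I := I) (J := J) →ₗ[R] K1 I J :=
  ((J.d 0 1).hom.comp P.subtype).codRestrict _ fun j => j.2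

/-- `j ↦ dj` -/
noncomputable def Ψ : P (I := I) (J := J) →ₗ[R] LinearMap.ker (C.sc' 0 1 2).g.hom :=
  (D.e1.symm.toLinearMap.comp Ψ₀).codRestrict _ fun j => by
    change (C.d 1 2).hom (D.e1.symm (Ψ₀ j)) = 0
    apply D.inj 2
    refine (D.d_κ 1 2 (D.e1.symm (Ψ₀ j))).symm.trans ?_
    rw [κ_e1_symm, map_zero]
    exact congr($(J.d_comp_d 0 1 2).hom j.1)

lemma κ_Ψ (j : P (I := I) (J := J)) : (D.κ.f 1).hom (D.Ψ j).1 = (J.d 0 1).hom j.1 :=
  D.κ_e1_symm _

lemma Ψ_surjective : Function.Surjective D.Ψ := by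
  rintro ⟨(c : C.X 1), hc⟩
  have hc0 : (C.d 1 2).hom c = 0 := hc
  have hc' : (J.d 1 2).hom ((D.κ.f 1).hom c) = 0 := by
    rw [D.d_κ, hc0, map_zero]
  obtain ⟨j, hj⟩ := D.ex 0 1 2 rfl rfl one_pos _ hc'
  refine ⟨⟨j, fun x hx => ?_⟩, ?_⟩
  · rw [hj]
    exact (D.range 1 _).1 ⟨c, rfl⟩ x hx
  · apply Subtype.ext
    apply D.inj 1
    rw [κ_Ψ]
    exact hj

/-- `(j, x) ↦ x j` -/
noncomputable def T : P (I := I) (J := J) →ₗ[R] I →ₗ[R] LinearMap.ker (J.d 0 1).hom :=
  LinearMap.mk₂ R (fun j x => ⟨(x : R) • j.1, by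
      rw [LinearMap.mem_ker, map_smul]
      exact j.2 x x.2⟩)
    (fun a b x => Subtype.ext (smul_add _ _ _))
    (fun r a x => Subtype.ext (smul_comm _ _ _))
    (fun a x y => Subtype.ext (add_smul _ _ _))
    (fun r a x => Subtype.ext (mul_smul _ _ _))

/-- `j ↦ (x ↦ ι⁻¹ (x j))` -/
noncomputable def Φ : P (I := I) (J := J) →ₗ[R] I →ₗ[R] R :=
  (LinearMap.compRight R D.eι.symm.toLinearMap).comp T

lemma ι_Φ (j : P (I := I) (J := J)) (x : I) : D.ι (D.Φ j x) = (x : R) • j.1 :=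
  D.ι_eι_symm _

lemma Φ_surjective : Function.Surjective D.Φ := by
  intro l
  obtain ⟨j, hj⟩ := D.exists_extension 0 (D.ι.comp l)
  refine ⟨⟨j, fun x hx => ?_⟩, ?_⟩
  · rw [← map_smul, hj ⟨x, hx⟩]
    exact (D.ι_range _).2 ⟨_, rfl⟩
  · refine LinearMap.ext fun x => D.ι_inj ?_
    rw [ι_Φ]
    exact hj x

variable {A : Type u} [AddCommGroup A] [Module R A] (π : R →ₗ[R] A)
  (hπ : Function.Surjective π) (hker : LinearMap.ker π = I)

include hker in
lemma ker_eq [Module.Invertible R I] :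
    LinearMap.ker ((LinearMap.compRight R (M := I) π).comp D.Φ) =
      LinearMap.ker ((LinearMap.range (C.sc' 0 1 2).moduleCatToCycles).mkQ.comp D.Ψ) := by
  ext j
  rw [LinearMap.mem_ker, LinearMap.mem_ker, LinearMap.comp_apply, LinearMap.comp_apply,
    Submodule.mkQ_apply, Submodule.Quotient.mk_eq_zero]
  constructor
  · intro h
    have h1 : ∀ x : I, D.Φ j x ∈ I := fun x =>
      (SetLike.ext_iff.1 hker _).1 (congr($h x) : D.Φ j x ∈ LinearMap.ker π)
    let f : I →ₗ[R] I := (D.Φ j).codRestrict I h1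
    obtain ⟨r, hr⟩ := (Module.Invertible.toModuleEnd_bijective R I).2 f
    have hr' : ∀ x : I, D.Φ j x = r * x := fun x =>
      (congrArg Subtype.val congr($hr x)).symm
    have h2 : ∀ x ∈ I, x • (j.1 - D.ι r) = 0 := fun x hx => by
      rw [smul_sub, sub_eq_zero, ← D.ι_Φ j ⟨x, hx⟩, hr', ← map_smul, smul_eq_mul, mul_comm]
    obtain ⟨b, hb⟩ := (D.range 0 _).2 h2
    refine ⟨b, Subtype.ext ?_⟩
    apply D.inj 1
    rw [κ_Ψ]
    refine (D.d_κ 0 1 b).symm.trans ?_
    rw [hb, map_sub, (D.ι_range _).2 ⟨r, rfl⟩, sub_zero]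
  · rintro ⟨(b : C.X 0), hb⟩
    have h1 : (J.d 0 1).hom ((D.κ.f 0).hom b) = (J.d 0 1).hom j.1 := by
      rw [D.d_κ, ← κ_Ψ]
      exact congrArg (D.κ.f 1).hom (congrArg Subtype.val hb)
    have h2 : (J.d 0 1).hom (j.1 - (D.κ.f 0).hom b) = 0 := by rw [map_sub, h1, sub_self]
    obtain ⟨r, hr⟩ := (D.ι_range _).1 h2
    refine LinearMap.ext fun x => ?_
    refine (SetLike.ext_iff.1 hker _).2 ?_
    have h3 : D.Φ j x = (x : R) * r := by
      apply D.ι_inj
      rw [ι_Φ, ← smul_eq_mul, map_smul, hr, smul_sub, (D.range 0 _).1 ⟨b, rfl⟩ x x.2, sub_zero]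
    rw [h3]
    exact Ideal.mul_mem_right _ _ x.2

include D hπ hker in
/-- **`H^1(C) ≅ Hom(I, R/I)`.** -/
theorem nonempty_homology_one [Module.Invertible R I] :
    Nonempty (C.homology 1 ≅ ModuleCat.of R (I →ₗ[R] A)) := by
  have h1 : Function.Surjective ((LinearMap.compRight R (M := I) π).comp D.Φ) := by
    intro g
    obtain ⟨l, hl⟩ := Module.projective_lifting_property π g hπ
    obtain ⟨j, hj⟩ := D.Φ_surjective l
    exact ⟨j, by rw [LinearMap.comp_apply, hj]; exact hl⟩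
  have h2 : Function.Surjective
      ((LinearMap.range (C.sc' 0 1 2).moduleCatToCycles).mkQ.comp D.Ψ) :=
    (Submodule.mkQ_surjective _).comp D.Ψ_surjective
  let e := (LinearMap.quotKerEquivOfSurjective _ h2).symm ≪≫ₗ
    Submodule.quotEquivOfEq _ _ (D.ker_eq π hker).symm ≪≫ₗ
    LinearMap.quotKerEquivOfSurjective _ h1
  exact ⟨C.homologyIsoSc' 0 1 2 (by simp) (by simp) ≪≫
    (C.sc' 0 1 2).moduleCatHomologyIso ≪≫ e.toModuleIso⟩

end H1

end Dat

end K786.InvKer
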