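import Groth.Agent.DTen.K786.Rel

/-!
# `RHom(A, K) ≅ K ⊗^L_R RHom(A, R)` for `A` perfect over `R`
-/

set_option autoImplicit false

universe u

open CategoryTheory CategoryTheory.Limits MonoidalCategory

attribute [local instance] HasDerivedCategory.standard

namespace K786.Rel2

open Groth.Agent.LoccohB DerivedCategory DTen K786.Good K786.Base K786.Mix K786.Rel

open Groth.Agent.LoccohB.ProjF (coextCx projMap projMap_naturality)
open Groth.Agent.LoccohB.RelT (tau quasiIso_tau)

variable {R A : Type u} [CommRing R] [CommRing A] [Algebra R A]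

section Complex

variable (J : DRing.Cx R)

/-- `(K ⊗_R A) ⊗_A Hom_R(A, J) ⟶ K ⊗_R J` over `R`. -/
noncomputable def bmap (K : DRing.Cx R) :
    (resCx (algebraMap R A)).obj ((extCx (algebraMap R A)).obj K ⊗
      (coextCx (algebraMap R A)).obj J : DRing.Cx A) ⟶ (K ⊗ J : DRing.Cx R) :=
  inv (projMap (algebraMap R A) K ((coextCx (algebraMap R A)).obj J)) ≫
      (K ◁ (ProjF.adjC (algebraMap R A)).counit.app J)

lemma bmap_naturality {K K' : DRing.Cx R} (f : K ⟶ K') :
    (resCx (algebraMap R A)).map ((extCx (algebraMap R A)).map f ▷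
      (coextCx (algebraMap R A)).obj J) ≫ bmap (A := A) J K' = bmap J K ≫ (f ▷ J) := by
  have h := projMap_naturality (algebraMap R A) K ((coextCx (algebraMap R A)).obj J) f
  rw [bmap, bmap, Category.assoc, ← cancel_epi (projMap (algebraMap R A) K
    ((coextCx (algebraMap R A)).obj J)), IsIso.hom_inv_id_assoc, ← reassoc_of% h,
    IsIso.hom_inv_id_assoc, whisker_exchange]

end Complex

section Derived

variable [HasRHomRel (algebraMap R A)] {J : DRing.Cx R} (η : 𝟙_ (DRing.Cx R) ⟶ J) [QuasiIso η]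

lemma isIso_Q_whisker (P : DRing.Cx R) [P.IsKProjective] : IsIso (Q.map (P ◁ η)) := by
  have := quasiIso_whiskerLeft_of_isKFlat (isKFlat_of_isKProjective P) η
  infer_instance

/-- `QP ≅ Q(P ⊗ J)` -/
noncomputable def jIso (P : DRing.Cx R) [P.IsKProjective] : Q.obj P ≅ Q.obj (P ⊗ J : DRing.Cx R) :=
  haveI := isIso_Q_whisker η P
  Q.mapIso (ρ_ P).symm ≪≫ asIso (Q.map (P ◁ η))

lemma jIso_naturality {P P' : DRing.Cx R} [P.IsKProjective] [P'.IsKProjective] (f : P ⟶ P') :
    Q.map f ≫ (jIso η P').hom = (jIso η P).hom ≫ Q.map (f ▷ J) := by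
  dsimp only [jIso, Iso.trans_hom, Functor.mapIso_hom, Iso.symm_hom, asIso_hom]
  rw [← Functor.map_comp, ← Functor.map_comp, ← Functor.map_comp, ← Functor.map_comp]
  congr 1
  rw [Category.assoc, whisker_exchange, rightUnitor_inv_naturality_assoc]

/-- `Q((P ⊗_R A) ⊗_A Hom_R(A, J)) ⟶ RHom(A, QP)` -/
noncomputable def beta (P : DRing.Cx R) [P.IsKProjective] :
    Q.obj ((extCx (algebraMap R A)).obj P ⊗
      (coextCx (algebraMap R A)).obj J : DRing.Cx A) ⟶ (RHomRel (algebraMap R A)).obj (Q.obj P) :=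
  (relAdj (algebraMap R A)).homEquiv _ _ ((resFactors (algebraMap R A)).hom.app _ ≫
    Q.map (bmap J P) ≫ (jIso η P).inv)

lemma beta_naturality {P P' : DRing.Cx R} [P.IsKProjective] [P'.IsKProjective] (f : P ⟶ P') :
    Q.map ((extCx (algebraMap R A)).map f ▷ (coextCx (algebraMap R A)).obj J) ≫
      beta (A := A) η P' = beta η P ≫ (RHomRel (algebraMap R A)).map (Q.map f) := by
  rw [beta, beta, ← Adjunction.homEquiv_naturality_left,
    ← Adjunction.homEquiv_naturality_right]
  congr 1
  have h1 := (resFactors (algebraMap R A)).hom.naturality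
    ((extCx (algebraMap R A)).map f ▷ (coextCx (algebraMap R A)).obj J)
  have h2 := jIso_naturality η f
  rw [← Iso.eq_comp_inv, Category.assoc] at h2
  have h3 := congrArg Q.map (bmap_naturality (A := A) J f)
  rw [Functor.map_comp, Functor.map_comp] at h3
  dsimp at h1
  rw [reassoc_of% h1, reassoc_of% h3, h2]
  simp

/-- `beta` after a K-injective resolution. -/
lemma beta_relCmp (P : DRing.Cx R) [P.IsKProjective] {J' : DRing.Cx R}
    (w : (P ⊗ J : DRing.Cx R) ⟶ J') :
    beta (A := A) η P ≫ (RHomRel (algebraMap R A)).map ((jIso η P).hom ≫ Q.map w) =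
      Q.map (tau (B := A) P J ≫ (coextCx (algebraMap R A)).map w) ≫
        relCmp (algebraMap R A) J' := by
  have h := homEquiv_relCmp (algebraMap R A) J' (bmap (A := A) J P ≫ w)
  have h2 : (ProjF.adjC (algebraMap R A)).homEquiv _ J' (bmap (A := A) J P ≫ w) =
      tau (B := A) P J ≫ (coextCx (algebraMap R A)).map w :=
    (ProjF.adjC (algebraMap R A)).homEquiv_naturality_right _ _
  refine Eq.trans ?_ (h.trans (congrArg (fun t => Q.map t ≫ relCmp (algebraMap R A) J') h2))
  rw [beta, ← Adjunction.homEquiv_naturality_right]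
  congr 1
  simp

/-- `beta` is an isomorphism if `A` is perfect over `R`. -/
lemma isIso_beta [J.IsKInjective] (P : DRing.Cx R) [P.IsKProjective] {F : DRing.Cx R}
    (ε : F ⟶ CoextDual.SB R A) [QuasiIso ε] (D : ThetaHom.DualBases F) [F.IsKProjective] :
    IsIso (beta (A := A) η P) := by
  obtain ⟨J', w, hJ', hw⟩ := RHomVal.enoughKInjectives_moduleCat R (P ⊗ J : DRing.Cx R)
  have h1 := beta_relCmp (A := A) η P w
  have h2 : QuasiIso (tau (B := A) P J ≫ (coextCx (algebraMap R A)).map w) :=
    quasiIso_tau ε D w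
  have h3 := isIso_relCmp (algebraMap R A) J'
  have h4 : IsIso (beta (A := A) η P ≫
      (RHomRel (algebraMap R A)).map ((jIso η P).hom ≫ Q.map w)) := by
    rw [h1]
    infer_instance
  exact IsIso.of_isIso_comp_right _ ((RHomRel (algebraMap R A)).map
    ((jIso η P).hom ≫ Q.map w))

end Derived

/-- **`RHom(A, K) ≅ K ⊗^L_R RHom(A, R)` for `A` perfect over `R`.** -/
theorem nonempty_iso_alg (R A : Type u) [CommRing R] [CommRing A] [Algebra R A]
    [HasRHomRel (algebraMap R A)] [HasLTenMix (algebraMap R A)]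
    (hA : DRing.IsPerfect R ((DRing.restrictD (algebraMap R A)).obj (Dual.inD A A))) :
    Nonempty (RHomRel (algebraMap R A) ≅
      (Functor.curry.obj (LTenMix (algebraMap R A))).flip.obj
        ((RHomRel (algebraMap R A)).obj (unit R))) := by
  obtain ⟨F, ε, hε, ⟨D⟩, hF⟩ := RelT.exists_resolution hA
  obtain ⟨J, η, hJ, hη⟩ := RHomVal.enoughKInjectives_moduleCat R (𝟙_ (DRing.Cx R))
  let X := (coextCx (algebraMap R A)).obj J
  have h0 := isIso_relCmp (algebraMap R A) J
  let m : (RHomRel (algebraMap R A)).obj (unit R) ≅ Q.obj X :=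
    (RHomRel (algebraMap R A)).mapIso (asIso (Q.map η)) ≪≫
      (asIso (relCmp (algebraMap R A) J)).symm
  let e1 : (Functor.curry.obj (LTenMix (algebraMap R A))).flip.obj
        ((RHomRel (algebraMap R A)).obj (unit R)) ≅
      (Functor.curry.obj (LTenMix (algebraMap R A))).flip.obj (Q.obj X) :=
    (Functor.curry.obj (LTenMix (algebraMap R A))).flip.mapIso m
  have h1 : ∀ (P : DRing.Cx R) [P.IsKProjective], IsIso ((εMix (algebraMap R A)).app (P, X)) :=
    fun P _ => isIso_εMix_of_isKFlat (algebraMap R A) P X (isKFlat_of_isKProjective P)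
  have h2 : ∀ (P : DRing.Cx R) [P.IsKProjective], IsIso (beta (A := A) η P) :=
    fun P _ => isIso_beta η P ε D
  refine ⟨(e1 ≪≫ natIsoOfKProj (fun P _ => (asIso ((εMix (algebraMap R A)).app (P, X))) ≪≫
    (asIso (beta (A := A) η P))) ?_).symm⟩
  intro P P' _ _ f
  have h3 := (εMix (algebraMap R A)).naturality (X := (P, X)) (Y := (P', X))
    (Prod.mkHom f (𝟙 X))
  have h4 := beta_naturality (A := A) η f
  dsimp at h3 ⊢
  rw [CategoryTheory.Functor.map_id, MonoidalCategory.whiskerLeft_id, Category.comp_id] at h3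
  rw [reassoc_of% h3, Category.assoc]
  exact congrArg (fun t => (εMix (algebraMap R A)).app (P, X) ≫ t) h4

theorem nonempty_iso (R A : Type u) [CommRing R] [CommRing A] (φ : R →+* A)
    [HasRHomRel φ] [HasLTenMix φ]
    (hA : DRing.IsPerfect R ((DRing.restrictD φ).obj (unit A))) :
    Nonempty (RHomRel φ ≅
      (Functor.curry.obj (LTenMix φ)).flip.obj ((RHomRel φ).obj (unit R))) := by
  letI := φ.toAlgebra
  have h1 : HasRHomRel (algebraMap R A) := inferInstanceAs (HasRHomRel φ)
  have h2 : HasLTenMix (algebraMap R A) := inferInstanceAs (HasLTenMix φ)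
  exact nonempty_iso_alg R A hA

end K786.Rel2
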