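import Groth.Agent.DTen.K786.InvKer
import Groth.Agent.DTen.K786.Rel2
import Groth.Agent.DTen.K786.BcMain
import Groth.Agent.LoccohB.DivisorSnake
import Mathlib.CategoryTheory.Abelian.Injective.Extend

/-!
# `RHom(R/I, K) ≅ K ⊗^L N[-1]` for `I` invertible
-/

set_option autoImplicit false

universe u

open CategoryTheory CategoryTheory.Limits MonoidalCategory

attribute [local instance] HasDerivedCategory.standard

namespace K786.InvMain

open Groth.Agent.LoccohB DerivedCategory DTen K786.Good K786.Base K786.Mix K786.Rel K786.Rel2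
  K786.InvKer

variable {R A : Type u} [CommRing R] [CommRing A] [Algebra R A]

lemma exactAt_elem {B : Type u} [Ring B] {K : CochainComplex (ModuleCat.{u} B) ℤ} {m n k : ℤ}
    (hmn : m + 1 = n) (hnk : n + 1 = k) (h : K.ExactAt n) (x : K.X n) (hx : (K.d n k).hom x = 0) :
    ∃ y : K.X m, (K.d m n).hom y = x := by
  rw [HomologicalComplex.exactAt_iff' K m n k (by simp; omega) (by simp; omega),
    ShortComplex.moduleCat_exact_iff] at h
  exact h x hx

lemma exactAt_of_elem {B : Type u} [Ring B] {K : CochainComplex (ModuleCat.{u} B) ℤ} {m n k : ℤ}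
    (hmn : m + 1 = n) (hnk : n + 1 = k) (h : ∀ x : K.X n, (K.d n k).hom x = 0 →
    ∃ y : K.X m, (K.d m n).hom y = x) : K.ExactAt n := by
  rw [HomologicalComplex.exactAt_iff' K m n k (by simp; omega) (by simp; omega),
    ShortComplex.moduleCat_exact_iff]
  exact h

section Res

variable (P : InjectiveResolution (ModuleCat.of R R))

/-- `R → J^0` -/
noncomputable def iota₀ : ModuleCat.of R R ⟶ P.cocomplex.X 0 := P.ι.f 0

instance : Mono (iota₀ P) := inferInstanceAs (Mono (P.ι.f 0))

lemma iota₀_comp : iota₀ P ≫ P.cocomplex.d 0 1 = 0 := P.ι_f_zero_comp_complex_d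

lemma exact_iota₀ : (ShortComplex.mk (iota₀ P) (P.cocomplex.d 0 1) (iota₀_comp P)).Exact := P.exact₀

/-- `R → J^0` -/
noncomputable def iota : ModuleCat.of R R ⟶ P.cochainComplex.X 0 :=
  iota₀ P ≫ (P.cochainComplexXIso 0 0 rfl).inv

instance : Mono (iota P) := by
  unfold iota
  infer_instance

lemma iota_comp : iota P ≫ P.cochainComplex.d 0 1 = 0 := by
  rw [iota, P.cochainComplex_d 0 1 0 1 rfl rfl, Category.assoc, Iso.inv_hom_id_assoc,
    reassoc_of% (iota₀_comp P), zero_comp]

lemma exact_iota : (ShortComplex.mk (iota P) (P.cochainComplex.d 0 1) (iota_comp P)).Exact := by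
  let e : ShortComplex.mk (iota₀ P) (P.cocomplex.d 0 1) (iota₀_comp P) ≅
      ShortComplex.mk (iota P) (P.cochainComplex.d 0 1) (iota_comp P) :=
    ShortComplex.isoMk (Iso.refl _)
      (P.cochainComplexXIso 0 0 rfl).symm (P.cochainComplexXIso 1 1 rfl).symm
      (by simp [iota]) (by
        dsimp
        rw [P.cochainComplex_d 0 1 0 1 rfl rfl]
        simp)
  exact ShortComplex.exact_of_iso e (exact_iota₀ P)

lemma exact_zero (j : P.cochainComplex.X 0) : (P.cochainComplex.d 0 1).hom j = 0 ↔
    ∃ r, (iota P).hom r = j := by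
  have h := exact_iota P
  rw [ShortComplex.ShortExact.moduleCat_exact_iff_function_exact] at h
  exact h j

variable (hφ : Function.Surjective (algebraMap R A))

include hφ in
lemma exists_at1 (T : ModuleCat.{u} R) (t : T)
    (ht : ∀ x ∈ RingHom.ker (algebraMap R A), x • t = 0) :
    ∃ g : (ModuleCat.coextendScalars.{u, u, u} (algebraMap R A)).obj T,
      DivisorSnake.ev (algebraMap R A) T g = t := by
  have key : ∀ c d : R, algebraMap R A c = algebraMap R A d → c • t = d • t := by
    intro c d hcd
    have h1 : c - d ∈ RingHom.ker (algebraMap R A) := by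
      rw [RingHom.mem_ker, map_sub, hcd, sub_self]
    have h2 := ht _ h1
    rwa [sub_smul, sub_eq_zero] at h2
  let g : (ModuleCat.restrictScalars.{u} (algebraMap R A)).obj (ModuleCat.of _ A) →ₗ[R] T :=
    { toFun := fun s => (hφ s).choose • t
      map_add' := fun s s' => by
        rw [← add_smul]
        refine key _ _ ?_
        refine (hφ (s + s')).choose_spec.trans ?_
        rw [map_add, (hφ s).choose_spec, (hφ s').choose_spec]
        rfl
      map_smul' := fun c s => by
        rw [RingHom.id_apply, ← mul_smul]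
        refine key _ _ ?_
        refine (hφ (c • s)).choose_spec.trans ?_
        rw [map_mul, (hφ s).choose_spec]
        rfl }
  refine ⟨(ModuleCat.CoextendScalars.equiv (algebraMap R A) T).symm g, ?_⟩
  change (hφ 1).choose • t = t
  conv_rhs => rw [← one_smul R t]
  refine key _ _ ?_
  rw [(hφ 1).choose_spec, map_one]

variable (A) in
/-- `Hom_R(A, J)` -/
noncomputable abbrev K : DRing.Cx A := (ProjF.coextCx (algebraMap R A)).obj P.cochainComplex

variable (A) in
/-- `Hom_R(A, J)` over `R` -/
noncomputable abbrev C : DRing.Cx R := (resCx (algebraMap R A)).obj (K A P)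

noncomputable def dat : Dat (RingHom.ker (algebraMap R A)) P.cochainComplex (C A P) where
  κ := (ProjF.adjC (algebraMap R A)).counit.app P.cochainComplex
  inj n := DivisorSnake.ev_injective (algebraMap R A) hφ (P.cochainComplex.X n)
  range n j := by
    constructor
    · rintro ⟨c, rfl⟩ x hx
      exact DivisorSnake.smul_ev (algebraMap R A) x hx (P.cochainComplex.X n) c
    · exact exists_at1 hφ _ j
  ι := (iota P).hom
  ι_inj := (ModuleCat.mono_iff_injective (iota P)).1 inferInstance
  ι_range := exact_zero P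
  neg n hn := CochainComplex.isZero_of_isStrictlyGE _ 0 n hn
  ex m n k hmn hnk hn j hj := exactAt_elem hmn hnk (P.cochainComplex.exactAt_of_isLE 0 n hn) j hj
  injective n := inferInstance

include hφ in
lemma exactAt_K [Module.Invertible R (RingHom.ker (algebraMap R A))] (n : ℤ) (hn : n ≠ 1) :
    (K A P).ExactAt n :=
  exactAt_of_elem (m := n - 1) (k := n + 1) (by omega) rfl
    ((dat P hφ).exactAt (n - 1) n (n + 1) (by omega) rfl hn)

end Res

section Main

open scoped TensorProduct

/-- `A` is perfect over `R`. -/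
lemma isPerfect_restrict (hφ : Function.Surjective (algebraMap R A))
    [Module.Invertible R (RingHom.ker (algebraMap R A))] :
    DRing.IsPerfect R ((DRing.restrictD (algebraMap R A)).obj (Dual.inD A A)) := by
  have h1 : DRing.IsPerfect R (Dual.inD R A) :=
    PerfTri.isPerfect_right (RingHom.ker (algebraMap R A)).subtype (Algebra.linearMap R A)
      (Submodule.injective_subtype _) (fun x => by
        constructor
        · intro hx
          exact ⟨⟨x, hx⟩, rfl⟩
        · rintro ⟨y, rfl⟩
          exact y.2) hφ (PerfTri.isPerfect_inD_of_projective _)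
      (PerfTri.isPerfect_inD_of_projective _)
  exact PerfTri.isPerfect_of_iso ((DerivedCategory.singleFunctor (ModuleCat.{u} R) 0).mapIso
    (K786.BcMain.algIso R A).symm ≪≫
    (((ModuleCat.restrictScalars.{u} (algebraMap R A)).mapDerivedCategorySingleFunctor 0).app
      (ModuleCat.of A A)).symm) h1

/-- An `R`-linear isomorphism of `A`-modules is `A`-linear for `R → A` surjective. -/
noncomputable def extendIso (hφ : Function.Surjective (algebraMap R A)) (Y : ModuleCat.{u} A)
    (Z : Type u) [AddCommGroup Z] [Module R Z] [Module A Z] [IsScalarTower R A Z]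
    (f : (ModuleCat.restrictScalars.{u} (algebraMap R A)).obj Y ≅ ModuleCat.of R Z) :
    Y ≅ ModuleCat.of A Z :=
  let g : Y ≃ₗ[A] Z :=
    { toFun := fun y => f.hom.hom y
      invFun := fun z => f.inv.hom z
      map_add' := fun a b => map_add f.hom.hom a b
      map_smul' := fun a y => by
        obtain ⟨r, rfl⟩ := hφ a
        refine (map_smul f.hom.hom r (show (ModuleCat.restrictScalars.{u}
          (algebraMap R A)).obj Y from y)).trans ?_
        exact (algebraMap_smul A r _).symm
      left_inv := fun y => congr($(f.hom_inv_id).hom y)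
      right_inv := fun z => congr($(f.inv_hom_id).hom z) }
  g.toModuleIso

/-- `N ≅ Hom_R(I, A)` -/
noncomputable def eN {I : Ideal R} {N : Type u} [AddCommGroup N] [Module A N]
    (e : (A ⊗[R] I) ⊗[A] N ≃ₗ[A] A) : N ≃ₗ[A] (I →ₗ[R] A) :=
  Module.Invertible.linearEquivDual (TensorProduct.comm A N (A ⊗[R] I) ≪≫ₗ e) ≪≫ₗ
    (LinearMap.liftBaseChangeEquiv A).symm

/-- **`RHom(A, K) ≅ K ⊗^L N[-1]`.** -/
theorem nonempty_iso (hφ : Function.Surjective (algebraMap R A))
    [Module.Invertible R (RingHom.ker (algebraMap R A))]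
    (N : Type u) [AddCommGroup N] [Module A N]
    (e : (A ⊗[R] (RingHom.ker (algebraMap R A))) ⊗[A] N ≃ₗ[A] A)
    [DTen.HasRHomRel (algebraMap R A)] [DTen.HasLTenMix (algebraMap R A)] :
    Nonempty (DTen.RHomRel (algebraMap R A) ≅
      (Functor.curry.obj (DTen.LTenMix (algebraMap R A))).flip.obj ((Dual.inD A N)⟦(-1 : ℤ)⟧)) := by
  obtain ⟨e0⟩ := nonempty_iso_alg R A (isPerfect_restrict hφ)
  let P := injectiveResolution (ModuleCat.of R R)
  have hJ : P.cochainComplex.IsKInjective :=
    CochainComplex.isKInjective_of_injective P.cochainComplex 0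
  let η : 𝟙_ (DRing.Cx R) ⟶ P.cochainComplex := P.ι'
  have hη : QuasiIso η := inferInstanceAs (QuasiIso P.ι')
  have h0 := isIso_relCmp (algebraMap R A) P.cochainComplex
  let m : (RHomRel (algebraMap R A)).obj (unit R) ≅ Q.obj (K A P) :=
    (RHomRel (algebraMap R A)).mapIso (asIso (Q.map η)) ≪≫
      (asIso (relCmp (algebraMap R A) P.cochainComplex)).symm
  have hGE : (K A P).IsGE 1 := by
    rw [CochainComplex.isGE_iff]
    exact fun i hi => exactAt_K P hφ i (by omega)
  have hLE : (K A P).IsLE 1 := by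
    rw [CochainComplex.isLE_iff]
    exact fun i hi => exactAt_K P hφ i (by omega)
  obtain ⟨Y, ⟨eY⟩⟩ := exists_iso_singleFunctor_obj_of_isGE_of_isLE (Q.obj (K A P)) 1
  let e1 : Y ≅ (K A P).homology 1 :=
    ((singleFunctorCompHomologyFunctorIso (ModuleCat.{u} A) 1).app Y).symm ≪≫
      (homologyFunctor _ 1).mapIso eY.symm ≪≫ (homologyFunctorFactors _ 1).app (K A P)
  let e2 : (ModuleCat.restrictScalars.{u} (algebraMap R A)).obj Y ≅ (C A P).homology 1 :=
    (ModuleCat.restrictScalars.{u} (algebraMap R A)).mapIso e1 ≪≫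
      (((K A P).sc 1).mapHomologyIso (ModuleCat.restrictScalars.{u} (algebraMap R A))).symm
  obtain ⟨e3⟩ := (dat P hφ).nonempty_homology_one (Algebra.linearMap R A) hφ rfl
  let e4 : Y ≅ ModuleCat.of A N := extendIso hφ Y _ (e2 ≪≫ e3) ≪≫ (eN e).symm.toModuleIso
  let e5 : Q.obj (K A P) ≅ (Dual.inD A N)⟦(-1 : ℤ)⟧ :=
    eY ≪≫ (singleFunctor (ModuleCat.{u} A) 1).mapIso e4 ≪≫
      (((singleFunctors (ModuleCat.{u} A)).shiftIso (-1) 1 0 (by norm_num)).app _).symm
  exact ⟨e0 ≪≫ (Functor.curry.obj (LTenMix (algebraMap R A))).flip.mapIso (m ≪≫ e5)⟩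

end Main

end K786.InvMain
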