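import Groth.Agent.DTen.K786.Base

/-!
# The mixed derived tensor product

* `hasLTenMix`, `isIso_εMix` (K-projective pairs), `isIso_εMix_of_isKFlat` (first complex K-flat);
* `isIso_split`.
-/

set_option autoImplicit false

universe u

open CategoryTheory CategoryTheory.Limits MonoidalCategory

attribute [local instance] HasDerivedCategory.standard

namespace K786.Mix

open Groth.Agent.LoccohB DerivedCategory DTen K786.Good K786.Base

variable {R A : Type u} [CommRing R] [CommRing A] (φ : R →+* A)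

/-- `extCx` preserves homotopies -/
noncomputable def extHtpy {K K' : DRing.Cx R} {f f' : K ⟶ K'} (h : Homotopy f f') :
    Homotopy ((extCx φ).map f) ((extCx φ).map f') :=
  (ModuleCat.extendScalars.{u, u, u} φ).mapHomotopy h

lemma hinv_mix₂ : HInv₂ (mix₂ φ) := fun _ _ _ _ _ _ _ _ h k =>
  LTen.Q_map_eq_of_homotopy (tensorHtpy (extHtpy φ h) k)

/-- the mixed derived tensor product exists -/
theorem hasLTenMix : HasLTenMix φ := hasLeft₂ _ (hinv_mix₂ φ)

/-- the counit is an isomorphism on K-projective pairs -/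
instance isIso_εMix [HasLTenMix φ] (P : DRing.Cx R) (P' : DRing.Cx A) [P.IsKProjective]
    [P'.IsKProjective] : IsIso ((εMix φ).app (P, P')) :=
  isIso_counit₂ (mix₂ φ) (hinv_mix₂ φ) (εMix φ) P P'

lemma isIso_QMix_map {X Y : DRing.Cx R × DRing.Cx A} (w : X ⟶ Y) [QuasiIso w.1] [QuasiIso w.2] :
    IsIso ((QMix R A).map w) := by
  change IsIso (Prod.mkHom (Q.map w.1) (Q.map w.2))
  exact isIso_prod _ _

/-- the counit is an isomorphism if the first complex is K-flat -/
theorem isIso_εMix_of_isKFlat [HasLTenMix φ] (K : DRing.Cx R) (N : DRing.Cx A)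
    (hK : DRing.IsKFlat R K) : IsIso ((εMix φ).app (K, N)) := by
  obtain ⟨P, p, hP, hp⟩ := KDer.enoughKProjectives_moduleCat R K
  obtain ⟨P', p', hP', hp'⟩ := KDer.enoughKProjectives_moduleCat A N
  have h0 : QuasiIso ((extCx φ).map p) := quasiIso_extCx φ (isKFlat_of_isKProjective P) hK p
  have h1 : QuasiIso ((extCx φ).map p ▷ P') := LTen.quasiIso_whiskerRight P' _
  have h2 : QuasiIso ((extCx φ).obj K ◁ p') :=
    quasiIso_whiskerLeft_of_isKFlat (isKFlat_extCx φ hK) p'
  let w : (P, P') ⟶ (K, N) := (p, p')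
  have e : (mix₂ φ).map w = Q.map ((extCx φ).map p ▷ P') ≫ Q.map ((extCx φ).obj K ◁ p') := by
    rw [← Functor.map_comp]
    rfl
  have : IsIso ((mix₂ φ).map w) := by
    rw [e]
    infer_instance
  have : IsIso ((QMix R A).map w) := isIso_QMix_map w
  exact isIso_app_of_map (εMix φ) w

/-- transport of invertibility along an isomorphism -/
lemma isIso_app_of_iso {𝒜 ℬ : Type*} [Category* 𝒜] [Category* ℬ] {F G : 𝒜 ⥤ ℬ} (τ : F ⟶ G)
    {X Y : 𝒜} (e : X ≅ Y) (h : IsIso (τ.app X)) : IsIso (τ.app Y) := by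
  have h1 := τ.naturality e.hom
  have h2 : IsIso (F.map e.hom ≫ τ.app Y) := by
    rw [h1]
    infer_instance
  exact IsIso.of_isIso_comp_left (F.map e.hom) _

/-- K-projective representatives -/
lemma exists_kproj (K : Dual.D A) : ∃ P : DRing.Cx A, P.IsKProjective ∧ Nonempty (Q.obj P ≅ K) :=
  LTen.exists_kproj K

lemma isIso_map_prod {C₁ C₂ H : Type*} [Category* C₁] [Category* C₂] [Category* H] (F : C₁ × C₂ ⥤ H)
    {X X' : C₁} {Y Y' : C₂} (f : X ⟶ X') (g : Y ⟶ Y') [IsIso f] [IsIso g] :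
    IsIso (F.map (Prod.mkHom f g)) := by
  have := isIso_prod f g
  infer_instance

/-- **`(E ⊗^L_R A) ⊗^L_A N ⟶ E ⊗^L_R N` is an isomorphism.** -/
theorem isIso_split [HasLTen A] [HasLBase φ] [HasLTenMix φ] (E : Dual.D R) (N : Dual.D A) :
    IsIso ((split φ).app (E, N)) := by
  obtain ⟨P, hP, ⟨e⟩⟩ := exists_kproj E
  obtain ⟨P', hP', ⟨e'⟩⟩ := exists_kproj N
  refine isIso_app_of_iso (split φ) (Iso.prod e e') ?_
  have h := split_fac φ (P, P')
  have h1 : IsIso ((splitβ φ).app (P, P')) := by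
    have a1 := isIso_map_prod (LTen₂ A) ((baseCmp φ).app P) (𝟙 (Q.obj P'))
    have hP2 : ((extCx φ).obj P).IsKProjective := RelT.isKProjective_extCx φ P
    have a2 : IsIso ((ε A).app ((extCx φ).obj P, P')) := isIso_ε _ _
    exact IsIso.comp_isIso
  have h2 : IsIso ((εMix φ).app (P, P')) := inferInstance
  rw [← h] at h1
  exact @IsIso.of_isIso_comp_right _ _ _ _ _ _ _ h2 h1

end K786.Mix
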