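import Groth.Agent.DTen.K786.Mix
import Groth.Agent.LoccohB.LTenBC
import Groth.Prelude.Def_DTen6

/-!
# The iterated change of rings for the derived tensor product
-/

set_option autoImplicit false

universe u

open CategoryTheory CategoryTheory.Limits MonoidalCategory

attribute [local instance] HasDerivedCategory.standard

namespace K786.Mix3

open Groth.Agent.LoccohB DerivedCategory DTen K786.Good K786.Base K786.Mix

variable {A B C : Type u} [CommRing A] [CommRing B] [CommRing C] (φ : A →+* B) (ψ : B →+* C)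

lemma hinv_mix₃ : HInv₃ (mix₃ φ ψ) := fun _ _ _ _ _ _ _ _ _ _ _ _ h k l =>
  LTen.Q_map_eq_of_homotopy (tensorHtpy (extHtpy ψ (tensorHtpy (extHtpy φ h) k)) l)

/-- the triple mixed derived tensor product exists -/
theorem hasLTenMix₃ : HasLTenMix₃ φ ψ := hasLeft₃ _ (hinv_mix₃ φ ψ)

/-- the counit is an isomorphism on K-projective triples -/
instance isIso_εMix₃ [HasLTenMix₃ φ ψ] (P : DRing.Cx A) (P' : DRing.Cx B) (P'' : DRing.Cx C)
    [P.IsKProjective] [P'.IsKProjective] [P''.IsKProjective] :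
    IsIso ((εMix₃ φ ψ).app (P, (P', P''))) :=
  isIso_counit₃ (mix₃ φ ψ) (hinv_mix₃ φ ψ) (εMix₃ φ ψ) P P' P''

instance isKProjective_mixT (P : DRing.Cx A) (P' : DRing.Cx B) [P.IsKProjective]
    [P'.IsKProjective] : ((mixT φ).obj (P, P')).IsKProjective := by
  have hP : ((extCx φ).obj P).IsKProjective := RelT.isKProjective_extCx φ P
  exact LTenBC.isKProjective_tensor ((extCx φ).obj P) P'

theorem isIso_leg₃L [HasLTenMix φ] [HasLTenMix ψ] [HasLTenMix₃ φ ψ] (P : DRing.Cx A)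
    (P' : DRing.Cx B) (P'' : DRing.Cx C) [P.IsKProjective] [P'.IsKProjective] [P''.IsKProjective] :
    IsIso ((leg₃L φ ψ).app ((QMix₃ A B C).obj (P, (P', P'')))) := by
  have h := leg₃L_fac φ ψ (P, (P', P''))
  have h1 : IsIso ((β₃L φ ψ).app (P, (P', P''))) := by
    have a0 : IsIso ((εMix φ).app (P, P')) := isIso_εMix φ P P'
    have a1 := isIso_map_prod (LTenMix ψ) ((εMix φ).app (P, P')) (𝟙 (Q.obj P''))
    have a2 : IsIso ((εMix ψ).app ((mixT φ).obj (P, P'), P'')) := isIso_εMix ψ _ P''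
    exact @IsIso.comp_isIso _ _ _ _ _ _ _ a1 a2
  have h2 : IsIso ((εMix₃ φ ψ).app (P, (P', P''))) := isIso_εMix₃ φ ψ P P' P''
  rw [← h] at h1
  exact @IsIso.of_isIso_comp_right _ _ _ _ _ _ _ h2 h1

theorem isIso_leg₃R [HasLTenMix ψ] [HasLTenMix (ψ.comp φ)] [HasLTenMix₃ φ ψ] (P : DRing.Cx A)
    (P' : DRing.Cx B) (P'' : DRing.Cx C) [P.IsKProjective] [P'.IsKProjective] [P''.IsKProjective] :
    IsIso ((leg₃R φ ψ).app ((QMix₃ A B C).obj (P, (P', P'')))) := by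
  have h := leg₃R_fac φ ψ (P, (P', P''))
  have h1 : IsIso ((β₃R φ ψ).app (P, (P', P''))) := by
    have a0 : IsIso ((εMix ψ).app (P', P'')) := isIso_εMix ψ P' P''
    have a1 := isIso_map_prod (LTenMix (ψ.comp φ)) (𝟙 (Q.obj P)) ((εMix ψ).app (P', P''))
    have a2 : IsIso ((εMix (ψ.comp φ)).app (P, (mixT ψ).obj (P', P''))) := isIso_εMix _ P _
    have a3 : IsIso (Q.map ((θ₃ φ ψ).inv.app (P, (P', P'')))) := inferInstance
    exact @IsIso.comp_isIso _ _ _ _ _ _ _ a1 (@IsIso.comp_isIso _ _ _ _ _ _ _ a2 a3)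
  have h2 : IsIso ((εMix₃ φ ψ).app (P, (P', P''))) := isIso_εMix₃ φ ψ P P' P''
  rw [← h] at h1
  exact @IsIso.of_isIso_comp_right _ _ _ _ _ _ _ h2 h1

theorem main [HasLTenMix φ] [HasLTenMix ψ] [HasLTenMix (ψ.comp φ)]
    [HasLTenMix₃ φ ψ] (E : Dual.D A) (F : Dual.D B) (G : Dual.D C) :
    IsIso ((leg₃L φ ψ).app (E, (F, G))) ∧ IsIso ((leg₃R φ ψ).app (E, (F, G))) := by
  obtain ⟨P, hP, ⟨e⟩⟩ := exists_kproj E
  obtain ⟨P', hP', ⟨e'⟩⟩ := exists_kproj F
  obtain ⟨P'', hP'', ⟨e''⟩⟩ := exists_kproj G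
  exact ⟨isIso_app_of_iso (leg₃L φ ψ) (Iso.prod e (Iso.prod e' e'')) (isIso_leg₃L φ ψ P P' P''),
    isIso_app_of_iso (leg₃R φ ψ) (Iso.prod e (Iso.prod e' e'')) (isIso_leg₃R φ ψ P P' P'')⟩

end K786.Mix3
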