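import Groth.Agent.DTen.K786.Mix

/-!
# `RHom(A, K) ≅ K ⊗^L_R RHom(A, R)` for `A` perfect over `R`

* `natIsoOfKProj`: functors on `D(R)` which agree, naturally, on K-projective complexes are isomorphic;
* `relCmp`: `Q Hom_R(A, J) ⟶ RHom(A, Q J)`, an isomorphism for `J` K-injective;
* `nonempty_iso`.
-/

set_option autoImplicit false

universe u

open CategoryTheory CategoryTheory.Limits MonoidalCategory

attribute [local instance] HasDerivedCategory.standard

namespace K786.Rel

open Groth.Agent.LoccohB DerivedCategory DTen K786.Good K786.Base K786.Mix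

section NatIso

variable {R : Type u} [CommRing R] {C : Type*} [Category* C] {F G : Dual.D R ⥤ C}

/-- the chosen K-projective representative -/
noncomputable def rep (K : Dual.D R) : DRing.Cx R := (K786.Mix.exists_kproj K).choose

instance (K : Dual.D R) : (rep K).IsKProjective := (K786.Mix.exists_kproj K).choose_spec.1

noncomputable def repIso (K : Dual.D R) : Q.obj (rep K) ≅ K :=
  (K786.Mix.exists_kproj K).choose_spec.2.some

/-- Functors on `D(R)` which agree, naturally, on K-projective complexes are isomorphic. -/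
noncomputable def natIsoOfKProj
    (α : ∀ (P : DRing.Cx R) [P.IsKProjective], F.obj (Q.obj P) ≅ G.obj (Q.obj P))
    (hα : ∀ (P P' : DRing.Cx R) [P.IsKProjective] [P'.IsKProjective] (f : P ⟶ P'),
      F.map (Q.map f) ≫ (α P').hom = (α P).hom ≫ G.map (Q.map f)) : F ≅ G :=
  NatIso.ofComponents (fun K => F.mapIso (repIso K).symm ≪≫ α (rep K) ≪≫ G.mapIso (repIso K))
    (fun {K L} f => by
      obtain ⟨g, hg⟩ := KDer.liftsFrom_Q (rep K) ((repIso K).hom ≫ f ≫ (repIso L).inv)
      have h1 := hα (rep K) (rep L) g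
      have h2 : F.map f ≫ F.map (repIso L).inv = F.map (repIso K).inv ≫ F.map (Q.map g) := by
        rw [hg, ← Functor.map_comp, ← Functor.map_comp, Iso.inv_hom_id_assoc]
      have h3 : G.map (Q.map g) ≫ G.map (repIso L).hom = G.map (repIso K).hom ≫ G.map f := by
        rw [hg, ← Functor.map_comp, ← Functor.map_comp, Category.assoc, Category.assoc,
          Iso.inv_hom_id, Category.comp_id]
      dsimp
      rw [reassoc_of% h2, reassoc_of% h1, h3, Category.assoc, Category.assoc])

end NatIso

section Yoneda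

variable {C : Type*} [Category* C] [Abelian C] [HasDerivedCategory C]

lemma isIso_of_bijective_Q' {K L : DerivedCategory C} (f : K ⟶ L)
    (h : ∀ (J : CochainComplex C ℤ), Function.Bijective (fun g : Q.obj J ⟶ K => g ≫ f)) :
    IsIso f := by
  have h' : ∀ M : DerivedCategory C, Function.Bijective (fun g : M ⟶ K => g ≫ f) := by
    intro M
    let J := Q.objPreimage M
    let e : Q.obj J ≅ M := Q.objObjPreimageIso M
    constructor
    · intro g g' hg
      have : e.hom ≫ g = e.hom ≫ g' := by
        apply (h J).1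
        dsimp only
        rw [Category.assoc, Category.assoc]
        exact congrArg (e.hom ≫ ·) hg
      exact (cancel_epi e.hom).1 this
    · intro g
      obtain ⟨g', hg'⟩ := (h J).2 (e.hom ≫ g)
      refine ⟨e.inv ≫ g', ?_⟩
      dsimp only at hg' ⊢
      rw [Category.assoc, hg', e.inv_hom_id_assoc]
  obtain ⟨g, hg⟩ := (h' L).2 (𝟙 L)
  refine ⟨g, ?_, hg⟩
  apply (h' K).1
  dsimp only at hg ⊢
  rw [Category.assoc, hg, Category.id_comp, Category.comp_id]

end Yoneda

variable {R A : Type u} [CommRing R] [CommRing A] (φ : R →+* A)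

section Cmp

variable [HasRHomRel φ]

/-- `Q Hom_R(A, J) ⟶ RHom(A, Q J)`. -/
noncomputable def relCmp (J : DRing.Cx R) :
    Q.obj ((ProjF.coextCx φ).obj J) ⟶ (RHomRel φ).obj (Q.obj J) :=
  (relAdj φ).homEquiv _ _ ((resFactors φ).hom.app ((ProjF.coextCx φ).obj J) ≫
    Q.map ((ProjF.adjC φ).counit.app J))

/-- The transpose of `Q g ≫ relCmp`. -/
lemma homEquiv_relCmp (J : DRing.Cx R) {L : DRing.Cx A} (g : (resCx φ).obj L ⟶ J) :
    (relAdj φ).homEquiv (Q.obj L) (Q.obj J) ((resFactors φ).hom.app L ≫ Q.map g) =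
      Q.map ((ProjF.adjC φ).homEquiv L J g) ≫ relCmp φ J := by
  rw [relCmp, ← Adjunction.homEquiv_naturality_left]
  congr 1
  have h1 := (resFactors φ).hom.naturality ((ProjF.adjC φ).homEquiv L J g)
  have h2 : g = (resCx φ).map ((ProjF.adjC φ).homEquiv L J g) ≫ (ProjF.adjC φ).counit.app J :=
    ((ProjF.adjC φ).homEquiv L J).symm_apply_apply g |>.symm.trans
      ((ProjF.adjC φ).homEquiv_counit _ _ _)
  dsimp at h1
  rw [reassoc_of% h1, ← Functor.map_comp]
  exact congrArg (fun t => (resFactors φ).hom.app L ≫ Q.map t) h2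

omit [HasRHomRel φ] in
lemma isKInjective_coextCx (J : DRing.Cx R) [J.IsKInjective] :
    ((ProjF.coextCx φ).obj J).IsKInjective where
  nonempty_homotopy_zero {L} f hL := by
    have hL' : ((resCx φ).obj L).Acyclic := by
      intro n
      exact (hL n).map (ModuleCat.restrictScalars.{u} φ)
    obtain ⟨h⟩ := CochainComplex.IsKInjective.nonempty_homotopy_zero
      (((ProjF.adjC φ).homEquiv L J).symm f) hL'
    have e1 : f = (ProjF.adjC φ).unit.app L ≫
        (ProjF.coextCx φ).map (((ProjF.adjC φ).homEquiv L J).symm f) :=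
      (((ProjF.adjC φ).homEquiv L J).apply_symm_apply f).symm.trans
        ((ProjF.adjC φ).homEquiv_unit _ _ _)
    have h2 := (ModuleCat.coextendScalars.{u, u, u} φ).mapHomotopy h
    have h3 := h2.compLeft ((ProjF.adjC φ).unit.app L)
    refine ⟨(Homotopy.ofEq e1).trans (h3.trans (Homotopy.ofEq ?_))⟩
    refine (congrArg (fun t => (ProjF.adjC φ).unit.app L ≫ t)
      ((ProjF.coextCx φ).map_zero _ J)).trans ?_
    exact comp_zero

/-- `RHom(A, -)` is computed termwise on K-injective complexes. -/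
instance isIso_relCmp (J : DRing.Cx R) [J.IsKInjective] : IsIso (relCmp φ J) := by
  apply isIso_of_bijective_Q'
  intro L
  have hJ : ((ProjF.coextCx φ).obj J).IsKInjective := isKInjective_coextCx φ J
  constructor
  · intro g g' hg
    obtain ⟨g, rfl⟩ := KDer.liftsTo_Q ((ProjF.coextCx φ).obj J) g
    obtain ⟨g', rfl⟩ := KDer.liftsTo_Q ((ProjF.coextCx φ).obj J) g'
    obtain ⟨k, rfl⟩ := ((ProjF.adjC φ).homEquiv L J).surjective g
    obtain ⟨k', rfl⟩ := ((ProjF.adjC φ).homEquiv L J).surjective g'
    dsimp only at hg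
    rw [← homEquiv_relCmp, ← homEquiv_relCmp] at hg
    have h1 := ((relAdj φ).homEquiv (Q.obj L) (Q.obj J)).injective hg
    rw [cancel_epi] at h1
    obtain ⟨h⟩ := KDer.homotopy_of_Q_map_eq_of_isKInjective h1
    apply LTen.Q_map_eq_of_homotopy
    have h2 := (ModuleCat.coextendScalars.{u, u, u} φ).mapHomotopy h
    have h3 := h2.compLeft ((ProjF.adjC φ).unit.app L)
    have e : ∀ k : (resCx φ).obj L ⟶ J, (ProjF.adjC φ).unit.app L ≫ (ProjF.coextCx φ).map k =
        (ProjF.adjC φ).homEquiv L J k := fun k =>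
      ((ProjF.adjC φ).homEquiv_unit _ _ _).symm
    exact (Homotopy.ofEq (e k).symm).trans (h3.trans (Homotopy.ofEq (e k')))
  · intro f
    obtain ⟨k, hk⟩ := KDer.liftsTo_Q J ((resFactors φ).inv.app L ≫
      ((relAdj φ).homEquiv (Q.obj L) (Q.obj J)).symm f)
    refine ⟨Q.map ((ProjF.adjC φ).homEquiv L J k), ?_⟩
    refine (homEquiv_relCmp φ J k).symm.trans ?_
    rw [hk, Iso.hom_inv_id_app_assoc, Equiv.apply_symm_apply]

end Cmp

end K786.Rel
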