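import Groth.Agent.DTen.K786.Mix
import Groth.Agent.LoccohB.LTenBC
import Groth.Prelude.Def_DTen5
import Groth.Prelude.Def_DTen6

/-!
# Restriction of scalars and derived tensor products; monoidality of derived base change

* `isIso_εRes`, `isIso_resLegB`;
* `unit_tensor_resTenCx`: compatibility of `unitCx`, `resTenCx` and `extTenCxIso`;
* `monMap φ T K : LBase (T ⊗ K) ⟶ LBase T ⊗ LBase K`, an isomorphism.
-/

set_option autoImplicit false

universe u

open CategoryTheory CategoryTheory.Limits MonoidalCategory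

attribute [local instance] HasDerivedCategory.standard

namespace K786.Res

open Groth.Agent.LoccohB DerivedCategory DTen K786.Good K786.Base K786.Mix

variable {R R' : Type u} [CommRing R] [CommRing R'] (φ : R →+* R')

/-- `resCx` preserves homotopies -/
noncomputable def resHtpy {K K' : DRing.Cx R'} {f f' : K ⟶ K'} (h : Homotopy f f') :
    Homotopy ((resCx φ).map f) ((resCx φ).map f') :=
  (ModuleCat.restrictScalars.{u} φ).mapHomotopy h

lemma hinv_resTen₂ : HInv₂ (resTen₂ φ) := fun _ _ _ _ _ _ _ _ h k =>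
  LTen.Q_map_eq_of_homotopy (resHtpy φ (tensorHtpy h k))

/-- the derived functor exists -/
theorem hasResTen : HasResTen φ := hasLeft₂ _ (hinv_resTen₂ φ)

/-- the counit is an isomorphism on K-projective pairs -/
instance isIso_εRes [HasResTen φ] (P P' : DRing.Cx R') [P.IsKProjective]
    [P'.IsKProjective] : IsIso ((εRes φ).app (P, P')) :=
  isIso_counit₂ (resTen₂ φ) (hinv_resTen₂ φ) (εRes φ) P P'

/-- Leg B is an isomorphism. -/
theorem isIso_resLegB_app [HasLTen R'] [HasResTen φ] (E E' : Dual.D R') :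
    IsIso ((resLegB φ).app (E, E')) := by
  obtain ⟨P, hP, ⟨e⟩⟩ := exists_kproj E
  obtain ⟨P', hP', ⟨e'⟩⟩ := exists_kproj E'
  refine isIso_app_of_iso (resLegB φ) (Iso.prod e e') ?_
  have h := resLegB_fac φ (P, P')
  have h1 : IsIso ((resβB φ).app (P, P')) := by
    have a1 : IsIso ((DRing.restrictD φ).map ((ε R').app (P, P'))) := inferInstance
    exact IsIso.comp_isIso
  have h2 : IsIso ((εRes φ).app (P, P')) := inferInstance
  rw [← h] at h1
  exact @IsIso.of_isIso_comp_right _ _ _ _ _ _ _ h2 h1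

/-- Leg B is an isomorphism. -/
theorem resLegIso [HasLTen R'] [HasResTen φ] : ResLegIso φ where
  isIso := by
    rw [NatTrans.isIso_iff_isIso_app]
    exact fun X => isIso_resLegB_app φ X.1 X.2

section Cx

set_option backward.isDefEq.respectTransparency false in
/-- module level: `x ⊗ y ↦ (1 ⊗ x) ⊗ (1 ⊗ y)` both ways -/
lemma unit_δ (M N : ModuleCat.{u} R) :
    ((ModuleCat.extendRestrictScalarsAdj.{u, u, u} φ).unit.app M ⊗ₘ
      (ModuleCat.extendRestrictScalarsAdj.{u, u, u} φ).unit.app N) ≫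
      resTen₀app φ ((extM φ).obj M) ((extM φ).obj N) =
    (ModuleCat.extendRestrictScalarsAdj.{u, u, u} φ).unit.app (M ⊗ N) ≫
      (resM φ).map (Functor.OplaxMonoidal.δ (extM φ) M N) := by
  refine ModuleCat.hom_ext (TensorProduct.ext' fun x y => ?_)
  exact (ModuleCat.extendScalars_δ_tmul φ M N x y).symm

set_option backward.isDefEq.respectTransparency false in
/-- `resTenCx` on elements: `x ⊗ y ↦ x ⊗ y`. -/
lemma resTenCx_tmk (Y Y' : DRing.Cx R') (p q n : ℤ) (h : p + q = n) (x : Y.X p) (y : Y'.X q) :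
    ((resTenCx φ Y Y').f n).hom (TenCx.tmk ((resCx φ).obj Y) ((resCx φ).obj Y') p q n h x y) =
      TenCx.tmk Y Y' p q n h x y :=
  congr($(ι_resTenCx φ Y Y' p q n h).hom (TensorProduct.tmul R
    (show ((resCx φ).obj Y).X p from x) (show ((resCx φ).obj Y').X q from y)))

set_option backward.isDefEq.respectTransparency false in
/-- `extTenCxIso` on elements: `1 ⊗ (x ⊗ y) ↦ (1 ⊗ x) ⊗ (1 ⊗ y)`. -/
lemma extTenCxIso_η (P P' : DRing.Cx R) (p q n : ℤ) (h : p + q = n) (x : P.X p) (y : P'.X q) :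
    ((extTenCxIso φ P P').hom.f n).hom (ProjF.η φ (P ⊗ P' : DRing.Cx R) n
      (TenCx.tmk P P' p q n h x y)) =
      TenCx.tmk ((extCx φ).obj P) ((extCx φ).obj P') p q n h (ProjF.η φ P p x) (ProjF.η φ P' q y) := by
  have h1 := map_ι_extTenCxIso_hom φ P P' p q n h
  exact congr($(h1).hom ((ModuleCat.extendRestrictScalarsAdj.{u, u, u} φ).unit.app
    (P.X p ⊗ P'.X q) (TensorProduct.tmul R x y)))

/-- The two canonical maps `P ⊗ P' ⟶ res (ext P ⊗ ext P')` agree. -/
lemma unit_resTenCx (P P' : DRing.Cx R) :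
    ((unitCx φ).app P ⊗ₘ (unitCx φ).app P') ≫ resTenCx φ ((extCx φ).obj P) ((extCx φ).obj P') =
      (unitCx φ).app (P ⊗ P') ≫ (resCx φ).map (extTenCxIso φ P P').hom := by
  refine TenCx.cx_hom_ext fun p q n h x y => ?_
  have e1 : ((unitCx φ).app P ⊗ₘ (unitCx φ).app P') =
      ((unitCx φ).app P ▷ P') ≫ (((resCx φ).obj ((extCx φ).obj P)) ◁ (unitCx φ).app P') :=
    tensorHom_def _ _
  rw [e1]
  refine (congrArg ((resTenCx φ ((extCx φ).obj P) ((extCx φ).obj P')).f n).hom
    ((congrArg ((((resCx φ).obj ((extCx φ).obj P)) ◁ (unitCx φ).app P').f n).hom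
      (TenCx.whiskerRight_tmk ((unitCx φ).app P) P' p q n h x y)).trans
      (TenCx.whiskerLeft_tmk ((resCx φ).obj ((extCx φ).obj P)) ((unitCx φ).app P')
        p q n h _ y))).trans ?_
  exact (resTenCx_tmk φ ((extCx φ).obj P) ((extCx φ).obj P') p q n h (ProjF.η φ P p x)
    (ProjF.η φ P' q y)).trans (extTenCxIso_η φ P P' p q n h x y).symm

end Cx

section Mon

variable [HasLTen R] [HasLTen R'] [HasLBase φ] [HasResTen φ] [ResLegIso φ]

/-- `T ⊗ K ⟶ res (LBase T ⊗ LBase K)` -/
noncomputable def monPre (T K : Dual.D R) :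
    (LTen₂ R).obj (T, K) ⟶
      (DRing.restrictD φ).obj ((LTen₂ R').obj ((LBase φ).obj T, (LBase φ).obj K)) :=
  (LTen₂ R).map (Prod.mkHom ((baseAdj φ).unit.app T) ((baseAdj φ).unit.app K)) ≫
    (resPF φ).app ((LBase φ).obj T, (LBase φ).obj K)

/-- `LBase (T ⊗ K) ⟶ LBase T ⊗ LBase K` -/
noncomputable def monMap (T K : Dual.D R) :
    (LBase φ).obj ((LTen₂ R).obj (T, K)) ⟶ (LTen₂ R').obj ((LBase φ).obj T, (LBase φ).obj K) :=
  ((baseAdj φ).homEquiv _ _).symm (monPre φ T K)

lemma homEquiv_monMap (T K : Dual.D R) :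
    (baseAdj φ).homEquiv _ _ (monMap φ T K) = monPre φ T K :=
  Equiv.apply_symm_apply _ _

lemma monPre_naturality {T T' K K' : Dual.D R} (f : T ⟶ T') (g : K ⟶ K') :
    (LTen₂ R).map (Prod.mkHom f g) ≫ monPre φ T' K' =
      monPre φ T K ≫ (DRing.restrictD φ).map ((LTen₂ R').map
        (Prod.mkHom ((LBase φ).map f) ((LBase φ).map g))) := by
  have h1 := (resPF φ).naturality (Prod.mkHom ((LBase φ).map f) ((LBase φ).map g))
  have h2 := (baseAdj φ).unit.naturality f
  have h3 := (baseAdj φ).unit.naturality g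
  dsimp at h1 h2 h3
  dsimp only [monPre]
  rw [Category.assoc, ← h1, ← Functor.map_comp_assoc, ← Functor.map_comp_assoc]
  congr 2
  exact Prod.ext h2 h3

lemma monMap_naturality {T T' K K' : Dual.D R} (f : T ⟶ T') (g : K ⟶ K') :
    (LBase φ).map ((LTen₂ R).map (Prod.mkHom f g)) ≫ monMap φ T' K' =
      monMap φ T K ≫ (LTen₂ R').map (Prod.mkHom ((LBase φ).map f) ((LBase φ).map g)) := by
  apply ((baseAdj φ).homEquiv _ _).injective
  rw [Adjunction.homEquiv_naturality_left, Adjunction.homEquiv_naturality_right, homEquiv_monMap,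
    homEquiv_monMap, monPre_naturality]

/-- `monPre` on images of complexes. -/
lemma monPre_Q (P P' : DRing.Cx R) :
    monPre φ (Q.obj P) (Q.obj P') ≫ (DRing.restrictD φ).map ((LTen₂ R').map
        (Prod.mkHom ((baseCmp φ).app P) ((baseCmp φ).app P')) ≫
        (ε R').app ((extCx φ).obj P, (extCx φ).obj P')) ≫
        (resFactors φ).hom.app ((tensorT R').obj ((extCx φ).obj P, (extCx φ).obj P')) =
      (ε R).app (P, P') ≫ Q.map ((unitCx φ).app (P ⊗ P') ≫
        (resCx φ).map (extTenCxIso φ P P').hom) := by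
  have h1 := (resPF φ).naturality (Prod.mkHom ((baseCmp φ).app P) ((baseCmp φ).app P'))
  have h2 := resPF_fac φ ((extCx φ).obj P, (extCx φ).obj P')
  have h3 := baseCmp_fac φ P
  have h4 := baseCmp_fac φ P'
  have h5 := (ε R).naturality (Prod.mkHom ((unitCx φ).app P) ((unitCx φ).app P'))
  dsimp at h1 h2 h3 h4 h5
  dsimp only [monPre]
  have h2' : (resPF φ).app (Q.obj ((extCx φ).obj P), Q.obj ((extCx φ).obj P')) ≫
      (DRing.restrictD φ).map ((ε R').app ((extCx φ).obj P, (extCx φ).obj P')) ≫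
      (resFactors φ).hom.app ((tensorT R').obj ((extCx φ).obj P, (extCx φ).obj P')) =
      (LTen₂ R).map (Prod.mkHom ((resFactors φ).hom.app ((extCx φ).obj P))
        ((resFactors φ).hom.app ((extCx φ).obj P'))) ≫
      (ε R).app ((resCx φ).obj ((extCx φ).obj P), (resCx φ).obj ((extCx φ).obj P')) ≫
      Q.map (resTenCx φ ((extCx φ).obj P) ((extCx φ).obj P')) := h2
  have h6 : ∀ K : DRing.Cx R, (baseAdj φ).unit.app (Q.obj K) ≫
      (DRing.restrictD φ).map ((baseCmp φ).app K) ≫ (resFactors φ).hom.app ((extCx φ).obj K) =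
      Q.map ((unitCx φ).app K) := by
    intro K
    have h7 := baseCmp_fac φ K
    rw [← Category.assoc]
    refine (congrArg (fun t => t ≫ (resFactors φ).hom.app ((extCx φ).obj K)) h7).trans ?_
    dsimp only [baseγ]
    rw [Category.assoc, Iso.inv_hom_id_app]
    exact Category.comp_id _
  rw [Functor.map_comp, Category.assoc, Category.assoc, ← reassoc_of% h1, h2',
    ← Functor.map_comp_assoc, ← Functor.map_comp_assoc]
  have e1 : (Prod.mkHom ((baseAdj φ).unit.app (Q.obj P)) ((baseAdj φ).unit.app (Q.obj P')) ≫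
      Prod.mkHom ((DRing.restrictD φ).map ((baseCmp φ).app P))
        ((DRing.restrictD φ).map ((baseCmp φ).app P'))) ≫
      Prod.mkHom ((resFactors φ).hom.app ((extCx φ).obj P))
        ((resFactors φ).hom.app ((extCx φ).obj P')) =
      Prod.mkHom (Q.map ((unitCx φ).app P)) (Q.map ((unitCx φ).app P')) :=
    Prod.ext ((Category.assoc _ _ _).trans (h6 P)) ((Category.assoc _ _ _).trans (h6 P'))
  rw [e1, ← unit_resTenCx, Functor.map_comp, tensorHom_def]
  exact (reassoc_of% h5) _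

omit [HasLTen R] [HasLTen R'] [HasResTen φ] [ResLegIso φ] in
lemma baseCmp_naturality {K K' : DRing.Cx R} (f : K ⟶ K') :
    (LBase φ).map (Q.map f) ≫ (baseCmp φ).app K' = (baseCmp φ).app K ≫ Q.map ((extCx φ).map f) :=
  (baseCmp φ).naturality f

/-- `monMap` on images of complexes. -/
lemma monMap_Q (P P' : DRing.Cx R) :
    monMap φ (Q.obj P) (Q.obj P') ≫ (LTen₂ R').map
        (Prod.mkHom ((baseCmp φ).app P) ((baseCmp φ).app P')) ≫
        (ε R').app ((extCx φ).obj P, (extCx φ).obj P') =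
      (LBase φ).map ((ε R).app (P, P')) ≫ (baseCmp φ).app (P ⊗ P') ≫
        Q.map (extTenCxIso φ P P').hom := by
  apply ((baseAdj φ).homEquiv _ _).injective
  rw [Adjunction.homEquiv_naturality_right, homEquiv_monMap]
  have h1 := monPre_Q φ P P'
  have h2 : (baseAdj φ).homEquiv _ _ ((LBase φ).map ((ε R).app (P, P')) ≫
      (baseCmp φ).app (P ⊗ P') ≫ Q.map (extTenCxIso φ P P').hom) =
      (ε R).app (P, P') ≫ Q.map ((unitCx φ).app (P ⊗ P') ≫
        (resCx φ).map (extTenCxIso φ P P').hom) ≫ (resFactors φ).inv.app _ := by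
    refine ((baseAdj φ).homEquiv_naturality_left _ _).trans ?_
    refine congrArg (fun t => (ε R).app (P, P') ≫ t) ?_
    refine (homEquiv_baseCmp φ (P ⊗ P') (extTenCxIso φ P P').hom).trans ?_
    rw [(ProjF.adjE φ).homEquiv_unit]
    rfl
  refine Eq.trans ?_ h2.symm
  rw [← Category.assoc, ← h1, Category.assoc, Category.assoc, Iso.hom_inv_id_app]
  exact congrArg (fun t => monPre φ (Q.obj P) (Q.obj P') ≫ t) (Category.comp_id _).symm

/-- **Derived base change is monoidal.** -/
instance isIso_monMap (T K : Dual.D R) : IsIso (monMap φ T K) := by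
  obtain ⟨P, hP, ⟨e⟩⟩ := exists_kproj T
  obtain ⟨P', hP', ⟨e'⟩⟩ := exists_kproj K
  have h1 := monMap_Q φ P P'
  have hP1 : ((extCx φ).obj P).IsKProjective := RelT.isKProjective_extCx φ P
  have hP2 : ((extCx φ).obj P').IsKProjective := RelT.isKProjective_extCx φ P'
  have hP3 : (P ⊗ P' : DRing.Cx R).IsKProjective := LTenBC.isKProjective_tensor P P'
  have a1 := isIso_map_prod (LTen₂ R') ((baseCmp φ).app P) ((baseCmp φ).app P')
  have a2 : IsIso ((ε R').app ((extCx φ).obj P, (extCx φ).obj P')) := isIso_ε _ _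
  have a3 : IsIso ((ε R).app (P, P')) := isIso_ε _ _
  have a4 : IsIso ((baseCmp φ).app (P ⊗ P' : DRing.Cx R)) := isIso_baseCmp φ _
  have a5 : IsIso ((LBase φ).map ((ε R).app (P, P')) ≫ (baseCmp φ).app (P ⊗ P') ≫
        Q.map (extTenCxIso φ P P').hom) :=
    @IsIso.comp_isIso _ _ _ _ _ _ _ inferInstance (@IsIso.comp_isIso _ _ _ _ _ _ _ a4 inferInstance)
  rw [← h1] at a5
  have a6 : IsIso (monMap φ (Q.obj P) (Q.obj P')) :=
    @IsIso.of_isIso_comp_right _ _ _ _ _ _ _ (@IsIso.comp_isIso _ _ _ _ _ _ _ a1 a2) a5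
  have h2 := monMap_naturality φ e.hom e'.hom
  have a7 := isIso_map_prod (LTen₂ R) e.hom e'.hom
  have a8 := isIso_map_prod (LTen₂ R') ((LBase φ).map e.hom) ((LBase φ).map e'.hom)
  have a9 : IsIso ((LBase φ).map ((LTen₂ R).map (Prod.mkHom e.hom e'.hom)) ≫ monMap φ T K) := by
    rw [h2]
    exact @IsIso.comp_isIso _ _ _ _ _ _ _ a6 a8
  exact IsIso.of_isIso_comp_left ((LBase φ).map ((LTen₂ R).map (Prod.mkHom e.hom e'.hom))) _

end Mon

end K786.Res
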