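import Groth.Agent.DTen.K786.Res

/-!
# Base change for derived hom

* `isIso_rhomBC`: `res RHom(K ⊗^L R', M) ⟶ RHom(K, res M)` is an isomorphism;
* `bcRHom_eq`: the base change map `bcRHom` through `monMap`.
-/

set_option autoImplicit false

universe u

open CategoryTheory CategoryTheory.Limits MonoidalCategory

attribute [local instance] HasDerivedCategory.standard

namespace K786.RhomBC

open Groth.Agent.LoccohB DerivedCategory DTen K786.Good K786.Base K786.Mix K786.Res

variable {R R' : Type u} [CommRing R] [CommRing R'] (φ : R →+* R')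
  [HasLTen R] [HasLTen R'] [HasRHom R] [HasRHom R'] [HasLBase φ] [HasResTen φ] [ResLegIso φ]

lemma rhomHomEquiv_symm {A : Type u} [CommRing A] [HasLTen A] [HasRHom A] (K L M : Dual.D A)
    (g : K ⟶ (RHomR A L).obj M) :
    (rhomHomEquiv K L M).symm g = (LTen₂ A).map (Prod.mkHom g (𝟙 L)) ≫ ev L M :=
  (rhomAdj A L).homEquiv_counit _ _ _

/-- The adjunction bookkeeping for `rhomBC`. -/
lemma rhomBC_key (T K : Dual.D R) (M : Dual.D R')
    (g : (LBase φ).obj T ⟶ (RHomR R' ((LBase φ).obj K)).obj M) :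
    (rhomHomEquiv T K ((DRing.restrictD φ).obj M)).symm
        ((baseAdj φ).homEquiv _ _ g ≫ rhomBC φ K M) =
      (baseAdj φ).homEquiv _ _ (monMap φ T K ≫ (rhomHomEquiv _ _ _).symm g) := by
  have h1 := rhomBC_fac φ K M
  have h2 := (resPF φ).naturality (Prod.mkHom g (𝟙 ((LBase φ).obj K)))
  dsimp at h1 h2
  rw [rhomHomEquiv_symm, rhomHomEquiv_symm, Adjunction.homEquiv_naturality_right, homEquiv_monMap]
  dsimp only [monPre]
  have e1 : (LTen₂ R).map (Prod.mkHom ((baseAdj φ).homEquiv _ _ g ≫ rhomBC φ K M) (𝟙 K)) =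
      (LTen₂ R).map (Prod.mkHom ((baseAdj φ).homEquiv _ _ g) (𝟙 K)) ≫
        (LTen₂ R).map (Prod.mkHom (rhomBC φ K M) (𝟙 K)) := by
    rw [← Functor.map_comp]
    exact congrArg _ (Prod.ext rfl (Category.comp_id _).symm)
  rw [e1, Category.assoc, h1]
  dsimp only [rhomBCCore]
  rw [Functor.map_comp, ← Category.assoc, ← Functor.map_comp, Category.assoc, ← reassoc_of% h2,
    ← Functor.map_comp_assoc]
  congr 2
  · refine Prod.ext ?_ ?_
    · change (baseAdj φ).homEquiv _ _ g ≫ 𝟙 _ = (baseAdj φ).unit.app T ≫ (DRing.restrictD φ).map g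
      rw [Category.comp_id, Adjunction.homEquiv_unit]
    · change 𝟙 K ≫ (baseAdj φ).unit.app K = (baseAdj φ).unit.app K ≫ (DRing.restrictD φ).map (𝟙 _)
      rw [Category.id_comp, CategoryTheory.Functor.map_id]
      exact (Category.comp_id _).symm

/-- **`res RHom(K ⊗^L R', M) ⟶ RHom(K, res M)` is an isomorphism.** -/
theorem isIso_rhomBC (K : Dual.D R) (M : Dual.D R') : IsIso (rhomBC φ K M) := by
  have key : ∀ T : Dual.D R, Function.Bijective
      (fun g : T ⟶ (DRing.restrictD φ).obj ((RHomR R' ((LBase φ).obj K)).obj M) =>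
        g ≫ rhomBC φ K M) := by
    intro T
    let e1 := (baseAdj φ).homEquiv T ((RHomR R' ((LBase φ).obj K)).obj M)
    let e2 := (rhomHomEquiv (A := R') ((LBase φ).obj T) ((LBase φ).obj K) M)
    let e3 : ((LTen₂ R').obj ((LBase φ).obj T, (LBase φ).obj K) ⟶ M) ≃
        ((LBase φ).obj ((LTen₂ R).obj (T, K)) ⟶ M) := (asIso (monMap φ T K)).symm.homFromEquiv
    let e4 := (baseAdj φ).homEquiv ((LTen₂ R).obj (T, K)) M
    let e5 := rhomHomEquiv T K ((DRing.restrictD φ).obj M)
    let e := e1.symm.trans (e2.symm.trans (e3.trans (e4.trans e5)))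
    have h : (fun g : T ⟶ (DRing.restrictD φ).obj ((RHomR R' ((LBase φ).obj K)).obj M) =>
        g ≫ rhomBC φ K M) = e := by
      funext g
      obtain ⟨g, rfl⟩ := e1.surjective g
      apply e5.symm.injective
      refine (rhomBC_key φ T K M g).trans ?_
      change _ = e5.symm (e5 (e4 (e3 (e2.symm (e1.symm (e1 g))))))
      rw [Equiv.symm_apply_apply, Equiv.symm_apply_apply]
      rfl
    rw [h]
    exact e.bijective
  obtain ⟨g, hg⟩ := (key _).2 (𝟙 _)
  refine ⟨g, ?_, hg⟩
  apply (key _).1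
  dsimp only at hg ⊢
  rw [Category.assoc, hg, Category.id_comp, Category.comp_id]

/-- `bcRHom` through `monMap`: `monMap ≫ (bcRHom ⊗ 𝟙) ≫ ev = LBase ev`. -/
lemma monMap_bcRHom (K M : Dual.D R) [IsIso (rhomBC φ K ((LBase φ).obj M))] :
    monMap φ ((RHomR R K).obj M) K ≫
      (LTen₂ R').map (Prod.mkHom (bcRHom φ K M) (𝟙 _)) ≫ ev _ _ = (LBase φ).map (ev K M) := by
  have h1 := rhomBC_key φ ((RHomR R K).obj M) K ((LBase φ).obj M) (bcRHom φ K M)
  apply ((baseAdj φ).homEquiv _ _).injective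
  refine Eq.trans ?_ (h1.symm.trans ?_)
  · rw [rhomHomEquiv_symm]
  · have h2 : (baseAdj φ).homEquiv _ _ (bcRHom φ K M) ≫ rhomBC φ K ((LBase φ).obj M) =
        (RHomR R K).map ((baseAdj φ).unit.app M) := by
      rw [bcRHom, Equiv.apply_symm_apply, Category.assoc, IsIso.inv_hom_id, Category.comp_id]
    rw [h2]
    have h3 := (rhomAdj R K).counit.naturality ((baseAdj φ).unit.app M)
    dsimp at h3
    rw [rhomHomEquiv_symm, h3, Adjunction.homEquiv_unit]
    exact ((baseAdj φ).unit.naturality (ev K M))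

end K786.RhomBC
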